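import Cfsg.Agent.H55.SThree.Alt.Match
import Cfsg.Agent.H2.Gaschutz

/-!
A complement of a fused invariant subgroup, and the isomorphism with the affine group it gives.
-/

set_option autoImplicit false

namespace H55.SThree.Alt

variable {G : Type*} [Group G] {s : G} {Q D : Subgroup G} {φ : ℕ → G} {k : ℕ}

theorem exists_code_split (hk : k ∈ [1, 2]) {c : ℕ} (hc : c ∈ allL) :
    ∃ e ∈ eL k, ∃ d ∈ wL 6, mulC true false e d = c := H0_gen k hk c hc

theorem card_L (F : Frame s Q true false φ) :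
    Nat.card (Subgroup.centralizer ({s} : Set G)) = 192 := by
  let f : Fin 192 → Subgroup.centralizer ({s} : Set G) := fun c =>
    ⟨φ c, F.mem c (mem_allL.2 c.2)⟩
  have hf : Function.Bijective f := by
    refine ⟨fun c d h => Fin.ext (F.inj c (mem_allL.2 c.2) d (mem_allL.2 d.2)
      (congrArg Subtype.val h)), fun g => ?_⟩
    obtain ⟨c, hc, e⟩ := F.surj g g.2
    exact ⟨⟨c, mem_allL.1 hc⟩, Subtype.ext e⟩
  rw [← Nat.card_eq_of_bijective f hf, Nat.card_fin]

theorem Trans.card (F : Frame s Q true false φ) (hk : k ∈ [1, 2]) (T : Trans s φ k D) :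
    Nat.card D = 8 := by
  have h8 : (eL k).toFinset.card = 8 := by
    simp only [List.mem_cons, List.not_mem_nil, or_false] at hk
    rcases hk with rfl | rfl <;> decide
  let f : (eL k).toFinset → D := fun c => ⟨φ c, (T.mem_D _).2 ⟨c, List.mem_toFinset.1 c.2, rfl⟩⟩
  have hf : Function.Bijective f := by
    refine ⟨fun c d h => Subtype.ext (F.inj c (eL_all hk (List.mem_toFinset.1 c.2)) d
      (eL_all hk (List.mem_toFinset.1 d.2)) (congrArg Subtype.val h)), fun g => ?_⟩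
    obtain ⟨c, hc, e⟩ := (T.mem_D g.1).1 g.2
    exact ⟨⟨c, List.mem_toFinset.2 hc⟩, Subtype.ext e⟩
  rw [← Nat.card_eq_of_bijective f hf, Nat.card_eq_fintype_card, Fintype.card_coe, h8]

theorem L_le [Finite G] (F : Frame s Q true false φ) (hk : k ∈ [1, 2]) (T : Trans s φ k D) :
    Subgroup.centralizer ({s} : Set G) ≤ Subgroup.normalizer (D : Set G) := by
  have key : ∀ g ∈ Subgroup.centralizer ({s} : Set G), ∀ y ∈ D, g * y * g⁻¹ ∈ D := by
    intro g hg y hy
    obtain ⟨c, hc, rfl⟩ := F.surj g hg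
    obtain ⟨d, hd, rfl⟩ := (T.mem_D y).1 hy
    rw [F.map_conj hc (eL_all hk hd)]
    exact (T.mem_D _).2 ⟨_, (eL_conj k hk c hc d hd).1, rfl⟩
  intro g hg
  rw [Subgroup.mem_normalizer_iff]
  exact fun y => ⟨key g hg y, fun hy => by
    have := key g⁻¹ (inv_mem hg) _ hy
    rwa [inv_inv, show g⁻¹ * (g * y * g⁻¹) * g = y by group] at this⟩

theorem index_L [Finite G] (F : Frame s Q true false φ) (hk : k ∈ [1, 2]) (T : Trans s φ k D) :
    (Subgroup.centralizer ({s} : Set G)).relIndex (Subgroup.normalizer (D : Set G)) = 7 := by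
  classical
  set N := Subgroup.normalizer (D : Set G) with hN
  set U := (Subgroup.centralizer ({s} : Set G)).subgroupOf N with hU
  have hsD : s ∈ D := (T.mem_D s).2 ⟨96, (eL_base (mem_kS hk)).2, F.map_s⟩
  have hconj : ∀ a b : N, a⁻¹ * b ∈ U ↔ (a : G) * s * (a : G)⁻¹ = (b : G) * s * (b : G)⁻¹ := by
    intro a b
    rw [hU, Subgroup.mem_subgroupOf, Frame.mem_L_iff]
    push_cast
    constructor <;> intro h
    · have h' : (a : G)⁻¹ * b * s = s * ((a : G)⁻¹ * b) := h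
      calc (a : G) * s * (a : G)⁻¹ = (a : G) * (s * ((a : G)⁻¹ * b)) * (b : G)⁻¹ := by group
        _ = (b : G) * s * (b : G)⁻¹ := by rw [← h']; group
    · show _ = _
      calc (a : G)⁻¹ * b * s = (a : G)⁻¹ * ((b : G) * s * (b : G)⁻¹) * b := by group
        _ = s * ((a : G)⁻¹ * b) := by rw [← h]; group
  let f : N ⧸ U → {d : D // (d : G) ≠ 1} := fun q => Quotient.liftOn' q (fun n : N => ⟨⟨(n : G) * s * (n : G)⁻¹,
      (Subgroup.mem_normalizer_iff.1 n.2 s).1 hsD⟩, fun e => F.s_ne (by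
        have e' : (n : G) * s * (n : G)⁻¹ = 1 := e
        calc s = (n : G)⁻¹ * ((n : G) * s * (n : G)⁻¹) * n := by group
          _ = 1 := by rw [e']; group)⟩)
    (fun (a b : N) h => Subtype.ext (Subtype.ext ((hconj a b).1 (QuotientGroup.leftRel_apply.1 h))))
  have hf : Function.Bijective f := by
    refine ⟨?_, fun d => ?_⟩
    · rintro ⟨a⟩ ⟨b⟩ h
      exact QuotientGroup.eq.2 ((hconj a b).2 (congrArg (fun z => (z.1 : G)) h))
    · obtain ⟨h, hh, e⟩ := T.trans d.1 d.1.2 d.2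
      exact ⟨QuotientGroup.mk ⟨h, hh⟩, Subtype.ext (Subtype.ext e)⟩
  show U.index = 7
  have h7 : Nat.card {d : D // (d : G) ≠ 1} = 7 := by
    have e : Nat.card {d : D // (d : G) ≠ 1} = Nat.card ↥(({1} : Set D)ᶜ) :=
      Nat.card_congr (Equiv.subtypeEquivRight fun d => by simp)
    rw [e, Nat.card_coe_set_eq, Set.ncard_compl, Set.ncard_singleton, T.card F hk]
  rw [Subgroup.index, Nat.card_eq_of_bijective f hf, h7]

/-- A fused invariant subgroup has a complement in its normalizer. -/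
theorem exists_compl [Finite G] (F : Frame s Q true false φ) (hk : k ∈ [1, 2])
    (T : Trans s φ k D) : ∃ H, Compl D H := by
  classical
  set N := Subgroup.normalizer (D : Set G) with hN
  set L := Subgroup.centralizer ({s} : Set G) with hL
  have hDN : D ≤ N := Subgroup.le_normalizer
  have hLN : L ≤ N := L_le F hk T
  have hD0 : ∀ g ∈ D, ∃ c ∈ eL k, φ c = g := fun g => (T.mem_D g).1
  have : (D.subgroupOf N).Normal := Subgroup.normal_in_normalizer
  have hcomm : IsMulCommutative (D.subgroupOf N) := ⟨⟨fun a b => by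
    obtain ⟨c, hc, e1⟩ := hD0 ((a : N) : G) (Subgroup.mem_subgroupOf.1 a.2)
    obtain ⟨d, hd, e2⟩ := hD0 ((b : N) : G) (Subgroup.mem_subgroupOf.1 b.2)
    refine Subtype.ext (Subtype.ext ?_)
    show ((a : N) : G) * ((b : N) : G) = ((b : N) : G) * ((a : N) : G)
    rw [← e1, ← e2]
    exact (eL_comm F hk hc hd).1⟩⟩
  have hDL : D ≤ L := fun g hg => by
    obtain ⟨c, hc, rfl⟩ := hD0 g hg
    exact F.mem c (eL_all hk hc)
  let M : Submonoid G :=
    { carrier := {g | ∃ d ∈ wL 6, φ d = g}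
      one_mem' := ⟨0, by decide +kernel, F.map_zero⟩
      mul_mem' := by
        rintro _ _ ⟨a, ha, rfl⟩ ⟨b, hb, rfl⟩
        exact ⟨_, H0_stab.2 a ha b hb, (F.mul a (H0_stab.1 a ha).1 b (H0_stab.1 b hb).1).symm⟩ }
  let A : Subgroup G := { M with
    inv_mem' := fun {x} hx => by
      have h : Submonoid.powers x ≤ M := Submonoid.powers_le.2 hx
      exact h ((mem_powers_iff_mem_zpowers (x := x)).2 (inv_mem (Subgroup.mem_zpowers x))) }
  have hA : ∀ g, g ∈ A ↔ ∃ d ∈ wL 6, φ d = g := fun g => Iff.rfl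
  have hAL : A ≤ L := fun g hg => by
    obtain ⟨d, hd, rfl⟩ := (hA g).1 hg
    exact F.mem d (H0_stab.1 d hd).1
  have hcop : (Nat.card (D.subgroupOf N)).Coprime (L.subgroupOf N).index := by
    rw [Nat.card_congr (Subgroup.subgroupOfEquivOfLe hDN).toEquiv, T.card F hk]
    show Nat.Coprime 8 (L.relIndex N)
    rw [index_L F hk T]
    decide
  have hAD : A.subgroupOf N ⊓ D.subgroupOf N = ⊥ := by
    rw [eq_bot_iff]
    rintro ⟨g, hgN⟩ ⟨h1, h2⟩
    obtain ⟨d, hd, e⟩ := (hA g).1 h1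
    obtain ⟨c, hc, rfl⟩ := hD0 g h2
    obtain rfl := F.inj d (H0_stab.1 d hd).1 c (eL_all hk hc) e
    exact Subgroup.mem_bot.2 (Subtype.ext (by
      show φ d = 1
      rw [H0_disjoint k hk d hc (H0_stab.1 d hd).2, F.map_zero]))
  have hsup : D.subgroupOf N ⊔ A.subgroupOf N = L.subgroupOf N := by
    refine le_antisymm (sup_le (fun g hg => hDL hg) (fun g hg => hAL hg)) ?_
    intro g hg
    obtain ⟨c, hc, e⟩ := F.surj _ (Subgroup.mem_subgroupOf.1 hg)
    obtain ⟨x, hx, d, hd, rfl⟩ := H0_gen k hk c hc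
    have hx' : φ x ∈ D := (T.mem_D _).2 ⟨x, hx, rfl⟩
    have hd' : φ d ∈ A := ⟨d, hd, rfl⟩
    rw [show g = (⟨φ x, hDN hx'⟩ : N) * ⟨φ d, hLN (hAL hd')⟩ from Subtype.ext (by
      show (g : G) = φ x * φ d
      rw [← e, F.mul x (eL_all hk hx) d (H0_stab.1 d hd).1])]
    exact Subgroup.mul_mem_sup (Subgroup.mem_subgroupOf.2 hx') (Subgroup.mem_subgroupOf.2 hd')
  obtain ⟨H, hH⟩ := H2.gaschutz_exists (K := D.subgroupOf N) (U := L.subgroupOf N)
    (fun g hg => hDL hg) hcop (A.subgroupOf N) (fun g hg => hAL hg) hAD hsup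
  refine ⟨H.map N.subtype, Subgroup.map_subtype_le H, ?_, ?_⟩
  · rintro _ ⟨g, hg, rfl⟩ hgD
    have h1 : g ∈ D.subgroupOf N ⊓ H := ⟨hgD, hg⟩
    rw [hH.disjoint.eq_bot, Subgroup.mem_bot] at h1
    rw [h1]; rfl
  · rw [Subgroup.card_map_of_injective (Subgroup.subtype_injective N)]
    have h1 := hH.card_mul
    rw [Nat.card_congr (Subgroup.subgroupOfEquivOfLe hDN).toEquiv, T.card F hk] at h1
    have h2 := Subgroup.card_mul_index (L.subgroupOf N)
    rw [Nat.card_congr (Subgroup.subgroupOfEquivOfLe hLN).toEquiv, card_L F] at h2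
    have h3 : (L.subgroupOf N).index = 7 := index_L F hk T
    rw [h3] at h2
    omega

/-- The isomorphism with the affine group given by a complement. -/
theorem exists_hom [Finite G] (F : Frame s Q true false φ) (hk : k ∈ [1, 2])
    (T : Trans s φ k D) {H : Subgroup G} (hH : Compl D H) :
    ∃ ψ : aff k →* G, Function.Injective ψ ∧ (∀ m : aff k, Match φ k m (ψ m)) ∧
      (∀ m : aff k, ((m : S8) 0 : ℕ) = 0 → ψ m ∈ H) ∧
      (∀ c ∈ eL k, ∀ hc : P c ∈ aff k, ψ ⟨P c, hc⟩ = φ c) ∧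
      ∀ m, ψ m ∈ Subgroup.normalizer (D : Set G) := by
  classical
  let Sp : S8 → G → Prop := fun m g =>
    ∃ r ∈ eL k, ∃ h ∈ H, g = φ r * h ∧ (m 0 : ℕ) = pt r ∧ Match φ k m g
  have hDN : ∀ {r}, r ∈ eL k → φ r ∈ Subgroup.normalizer (D : Set G) := fun hr =>
    Subgroup.le_normalizer ((T.mem_D _).2 ⟨_, hr, rfl⟩)
  have hex : ∀ m ∈ aff k, ∃ g, Sp m g := by
    intro m hm
    obtain ⟨r, hr, hrp, -⟩ := eL_regular k hk (m 0 : ℕ) (m 0).2
    have hrA := eL_all hk hr
    have hm' : (P r)⁻¹ * m ∈ aff k := mul_mem (inv_mem (P_mem_aff F hk hrA)) hm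
    obtain ⟨h, hh, hM⟩ := exists_match F hk T hH hm'
    refine ⟨φ r * h, r, hr, h, hh, rfl, hrp.symm, ?_⟩
    have := match_mul (match_code F hk hrA) hM
    rwa [mul_inv_cancel_left] at this
  have huniq : ∀ m g g', Sp m g → Sp m g' → g = g' := by
    rintro m g g' ⟨r, hr, h, hh, rfl, hp, hM⟩ ⟨r', hr', h', hh', rfl, hp', hM'⟩
    obtain ⟨c, -, -, hu⟩ := eL_regular k hk (m 0 : ℕ) (m 0).2
    obtain rfl := (hu r hr hp.symm).trans (hu r' hr' hp'.symm).symm
    have hd := match_unique F hk T hM hM'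
    rw [show (φ r * h)⁻¹ * (φ r * h') = h⁻¹ * h' by group] at hd
    rw [inv_mul_eq_one.1 (hH.disj _ (mul_mem (inv_mem hh) hh') hd)]
  have hmul : ∀ m g m' g', Sp m g → Sp m' g' → Sp (m * m') (g * g') := by
    rintro m g m' g' ⟨r, hr, h, hh, rfl, hp, hM⟩ ⟨r', hr', h', hh', rfl, hp', hM'⟩
    obtain ⟨d, hd, e1, e2⟩ := hM r' hr'
    have hrA := eL_all hk hr
    have hdA := eL_all hk hd
    have hc := (eL_comm F hk hr hd).1
    have e3 : h * φ r' = φ d * h := by
      apply mul_left_cancel (a := φ r)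
      rw [← mul_assoc, e2, ← mul_assoc, ← mul_assoc, hc.eq]
    refine ⟨mulC true false d r, (eL_mul k hk d hd r hr).1, h * h', mul_mem hh hh', ?_, ?_,
      match_mul hM hM'⟩
    · rw [← F.mul d hdA r hrA]
      calc φ r * h * (φ r' * h') = φ r * (h * φ r') * h' := by group
        _ = φ d * φ r * (h * h') := by rw [e3, ← hc.eq]; group
    · have h0 : m' 0 = P r' 0 := Fin.ext (hp'.trans (P_pt (eL_all hk hr')).symm)
      have h1 : m 0 = P r 0 := Fin.ext (hp.trans (P_pt hrA).symm)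
      have h2 : (m * m') 0 = P (mulC true false d r) 0 := by
        rw [Equiv.Perm.mul_apply, h0, ← Equiv.Perm.mul_apply, e1, Equiv.Perm.mul_apply, h1,
          ← Equiv.Perm.mul_apply, P_mul F hdA hrA]
      rw [h2, P_pt (mulC_mem hdA hrA)]
  choose g hg using fun m : aff k => hex m m.2
  let ψ : aff k →* G := MonoidHom.mk' g fun a b =>
    huniq _ _ _ (hg (a * b)) (hmul _ _ _ _ (hg a) (hg b))
  refine ⟨ψ, ?_, fun m => ?_, fun m hm => ?_, fun c hc hcm => ?_, fun m => ?_⟩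
  · rw [injective_iff_map_eq_one]
    intro m (hm : g m = 1)
    obtain ⟨r, hr, h, hh, e, hp, hM⟩ := hg m
    rw [hm] at e hM
    have hhr : h = (φ r)⁻¹ := eq_inv_of_mul_eq_one_right e.symm
    have hh1 : h = 1 := hH.disj h hh (hhr ▸ inv_mem ((T.mem_D _).2 ⟨r, hr, rfl⟩))
    have hr0 : r = 0 := F.inj r (eL_all hk hr) 0 zero_mem_allL (by
      rw [F.map_zero, e, hh1, mul_one])
    have hm0 : (m : S8) 0 = 0 := Fin.ext (by rw [hp, hr0, rho_zero.2]; rfl)
    refine Subtype.ext (Equiv.ext fun i => ?_)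
    obtain ⟨c, hc, hci, -⟩ := eL_regular k hk i i.2
    have hi : i = P c 0 := Fin.ext (hci.symm.trans (P_pt (eL_all hk hc)).symm)
    obtain ⟨d, hd, e1, e2⟩ := hM c hc
    obtain rfl : c = d := F.inj c (eL_all hk hc) d (eL_all hk hd) (by simpa using e2)
    rw [hi, ← Equiv.Perm.mul_apply, e1, Equiv.Perm.mul_apply, hm0]
    rfl
  · obtain ⟨_, _, _, _, _, _, hM⟩ := hg m
    exact hM
  · obtain ⟨r, hr, h, hh, e, hp, -⟩ := hg m
    obtain rfl : r = 0 := H0_disjoint k hk r hr (hp.symm.trans hm)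
    show g m ∈ H
    rw [e, F.map_zero, one_mul]; exact hh
  · refine huniq _ _ _ (hg ⟨P c, hcm⟩) ⟨c, hc, 1, one_mem H, (mul_one _).symm,
      P_pt (eL_all hk hc), match_code F hk (eL_all hk hc)⟩
  · obtain ⟨r, hr, h, hh, e, -, -⟩ := hg m
    show g m ∈ _
    rw [e]
    exact mul_mem (hDN hr) (hH.le hh)

end H55.SThree.Alt
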