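import Cfsg.Agent.H55.SThree.Alt.Good

/-! Two commuting involutions outside the table, one in each affine group. -/

set_option autoImplicit false

namespace H55.SThree.Alt

/-- An involution of the first affine group. -/
def aA : ℕ := 7806498

/-- An involution of the second affine group. -/
def bB : ℕ := 11508770

/-- The codes moved into the table by both involutions. -/
def bothL : List ℕ := [0, 3, 36, 39, 54, 57, 90, 93, 96, 99, 132, 135, 150, 153, 186, 189]

theorem ab_spec : okP aA = true ∧ okP bB = true ∧ nrm (pE 1) aA = true ∧ nrm (pE 2) bB = true ∧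
    mulP aA aA = idP ∧ mulP bB bB = idP ∧ mulP aA bB = mulP bB aA := by decide +kernel

theorem both_round : ∀ c ∈ bothL, ∃ c1 ∈ allL, mulP bB (rho c) = mulP (rho c1) bB ∧
    ∃ c2 ∈ allL, mulP aA (rho c1) = mulP (rho c2) aA ∧
    ∃ c3 ∈ allL, mulP bB (rho c2) = mulP (rho c3) bB ∧
      mulP aA (rho c3) = mulP (rho c) aA := by decide +kernel

theorem both_spec : (∀ c ∈ bothL, c ∈ allL ∧ mulC true false c c = 0) ∧ 96 ∈ bothL ∧
    ∀ c ∈ allL, (∀ d ∈ bothL, isC true false c d = true) → c ∈ bothL := by decide +kernel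

theorem both_fixed : ∀ c ∈ bothL, mulP aA (rho c) = mulP (rho c) aA →
    mulP bB (rho c) = mulP (rho c) bB → c = 0 ∨ c = 189 := by decide +kernel

theorem shift_spec : mulP bB (rho 96) = mulP (rho 54) bB ∧ mulC true false 96 54 = 150 ∧
    mulP aA (rho 150) = mulP (rho 135) aA ∧ mulP bB (rho 150) = mulP (rho 150) bB ∧
    mulC true false (mulC true false 135 189) 150 = 0 := by decide +kernel

variable {G : Type*} [Group G] {s : G} {Q : Subgroup G} {φ : ℕ → G}

/-- A homomorphism from an affine group extending the table. -/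
structure Ext (φ : ℕ → G) (k : ℕ) (ψ : aff k →* G) : Prop where
  inj : Function.Injective ψ
  agree : ∀ c ∈ allL, ∀ h : P c ∈ aff k, ψ ⟨P c, h⟩ = φ c

theorem move {k : ℕ} {ψ : aff k →* G} (F : Frame s Q true false φ) (E : Ext φ k ψ)
    (hk : k ∈ [1, 2]) {w c d : ℕ} (hw : okP w = true) (hwm : toP w ∈ aff k) (hc : c ∈ allL)
    (hd : d ∈ allL) :
    ψ ⟨toP w, hwm⟩ * φ c = φ d * ψ ⟨toP w, hwm⟩ ↔ mulP w (rho c) = mulP (rho d) w := by
  rw [← E.agree c hc (P_mem_aff F hk hc), ← E.agree d hd (P_mem_aff F hk hd), ← map_mul, ← map_mul,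
    E.inj.eq_iff, mulP_iff hw (rho_ok c hc) (rho_ok d hd) hw, Subtype.ext_iff]
  rfl

theorem aA_mem : toP aA ∈ aff 1 := (nrm_iff (pE_ok (by simp)) ab_spec.1).1 ab_spec.2.2.1

theorem bB_mem : toP bB ∈ aff 2 := (nrm_iff (pE_ok (by simp)) ab_spec.2.1).1 ab_spec.2.2.2.1

theorem invol_of {k : ℕ} (ψ : aff k →* G) {w : ℕ} (hw : okP w = true) (hwm : toP w ∈ aff k)
    (h2 : mulP w w = idP) : ψ ⟨toP w, hwm⟩ * ψ ⟨toP w, hwm⟩ = 1 := by
  rw [← map_mul]
  have : (⟨toP w, hwm⟩ : aff k) * ⟨toP w, hwm⟩ = 1 := Subtype.ext (by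
    show toP w * toP w = 1
    rw [← toP_mul hw hw, h2, toP_idP])
  rw [this, map_one]

/-- The two extensions can be chosen with commuting involutions. -/
theorem exists_pair [Finite G] (W : TwoData s Q φ) :
    ∃ (ψ₁ : aff 1 →* G) (ψ₂ : aff 2 →* G), Ext φ 1 ψ₁ ∧ Ext φ 2 ψ₂ ∧
      Commute (ψ₁ ⟨toP aA, aA_mem⟩) (ψ₂ ⟨toP bB, bB_mem⟩) := by
  have F := W.frame
  obtain ⟨D₁, T₁⟩ := exists_trans W.fused_one
  obtain ⟨D₂, T₂⟩ := exists_trans W.fused_two
  obtain ⟨ψ₁, i₁, a₁⟩ := exists_ext F (k := 1) (by simp) T₁ W.mem_kL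
  obtain ⟨ψ₂, i₂, a₂⟩ := exists_ext F (k := 2) (by simp) T₂ W.mem_kL
  have E₁ : Ext φ 1 ψ₁ := ⟨i₁, a₁⟩
  have E₂ : Ext φ 2 ψ₂ := ⟨i₂, a₂⟩
  set a := ψ₁ ⟨toP aA, aA_mem⟩ with ha
  set b := ψ₂ ⟨toP bB, bB_mem⟩ with hb
  obtain ⟨oa, ob, -, -, ha2', hb2', -⟩ := ab_spec
  have ha2 : a * a = 1 := invol_of ψ₁ oa aA_mem ha2'
  have hb2 : b * b = 1 := invol_of ψ₂ ob bB_mem hb2'
  have ma : ∀ {c d}, c ∈ allL → d ∈ allL →
      (a * φ c = φ d * a ↔ mulP aA (rho c) = mulP (rho d) aA) :=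
    fun hc hd => move F E₁ (by simp) oa aA_mem hc hd
  have mb : ∀ {c d}, c ∈ allL → d ∈ allL →
      (b * φ c = φ d * b ↔ mulP bB (rho c) = mulP (rho d) bB) :=
    fun hc hd => move F E₂ (by simp) ob bB_mem hc hd
  obtain ⟨hbA, hb96, hbcent⟩ := both_spec
  set d := a * b * (a * b) with hd
  have hround : ∀ c ∈ bothL, Commute d (φ c) := by
    intro c hc
    have hcA := (hbA c hc).1
    obtain ⟨c1, h1, e1, c2, h2, e2, c3, h3, e3, e4⟩ := both_round c hc
    show _ = _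
    calc a * b * (a * b) * φ c = a * b * a * (b * φ c) := by group
      _ = a * b * (a * φ c1) * b := by rw [(mb hcA h1).2 e1]; group
      _ = a * (b * φ c2) * a * b := by rw [(ma h1 h2).2 e2]; group
      _ = (a * φ c3) * b * a * b := by rw [(mb h2 h3).2 e3]; group
      _ = φ c * (a * b * (a * b)) := by rw [(ma h3 hcA).2 e4]; group
  obtain ⟨d0, hd0A, hd0⟩ := F.surj d (Frame.mem_L_iff.2 (F.map_s ▸ hround 96 hb96))
  have hd0b : d0 ∈ bothL := hbcent d0 hd0A fun c hc =>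
    (F.commute_iff hd0A (hbA c hc).1).1 (hd0.symm ▸ hround c hc)
  have hdd : d * d = 1 := by
    rw [← hd0, F.mul d0 hd0A d0 hd0A, (hbA d0 hd0b).2, F.map_zero]
  have hinv : a * d * a = d ∧ b * d * b = d := by
    have e : d⁻¹ = d := inv_eq_of_mul_eq_one_right hdd
    constructor
    · refine Eq.trans ?_ e
      rw [eq_inv_iff_mul_eq_one, hd]
      calc a * (a * b * (a * b)) * a * (a * b * (a * b))
          = a * a * b * a * b * (a * a) * b * a * b := by group
        _ = b * a * (b * b) * a * b := by rw [ha2]; group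
        _ = b * (a * a) * b := by rw [hb2]; group
        _ = 1 := by rw [ha2, mul_one, hb2]
    · refine Eq.trans ?_ e
      rw [eq_inv_iff_mul_eq_one, hd]
      calc b * (a * b * (a * b)) * b * (a * b * (a * b))
          = b * a * b * a * (b * b) * a * b * a * b := by group
        _ = b * a * b * (a * a) * b * a * b := by rw [hb2]; group
        _ = b * a * (b * b) * a * b := by rw [ha2]; group
        _ = b * (a * a) * b := by rw [hb2]; group
        _ = 1 := by rw [ha2, mul_one, hb2]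
  have hfix : mulP aA (rho d0) = mulP (rho d0) aA ∧ mulP bB (rho d0) = mulP (rho d0) bB := by
    refine ⟨(ma hd0A hd0A).1 ?_, (mb hd0A hd0A).1 ?_⟩
    · rw [hd0]
      calc a * d = a * d * (a * a) := by rw [ha2, mul_one]
        _ = a * d * a * a := by group
        _ = d * a := by rw [hinv.1]
    · rw [hd0]
      calc b * d = b * d * (b * b) := by rw [hb2, mul_one]
        _ = b * d * b * b := by group
        _ = d * b := by rw [hinv.2]
  have hcomm : ∀ {x y : G}, x * x = 1 → y * y = 1 → x * y * (x * y) = 1 → Commute x y := by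
    intro x y hx hy h
    show _ = _
    calc x * y = x * y * (x * y) * ((y⁻¹) * x⁻¹) := by group
      _ = y * x := by rw [h, one_mul, inv_eq_of_mul_eq_one_right hx, inv_eq_of_mul_eq_one_right hy]
  rcases both_fixed d0 hd0b hfix.1 hfix.2 with rfl | rfl
  · exact ⟨ψ₁, ψ₂, E₁, E₂, hcomm ha2 hb2 (hd0.symm.trans F.map_zero)⟩
  -- conjugate the second one by `s`
  let ψ₂' : aff 2 →* G := (MulAut.conj s).toMonoidHom.comp ψ₂
  have E₂' : Ext φ 2 ψ₂' := ⟨(MulAut.conj s).injective.comp i₂, fun c hc h => by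
    show s * ψ₂ ⟨P c, h⟩ * s⁻¹ = φ c
    rw [a₂ c hc h, (F.s_comm (F.mem c hc)).symm.eq, mul_inv_cancel_right]⟩
  refine ⟨ψ₁, ψ₂', E₁, E₂', hcomm ha2 (invol_of ψ₂' ob bB_mem hb2') ?_⟩
  obtain ⟨eb, e150, ea, ebx, etot⟩ := shift_spec
  have h54 : (54 : ℕ) ∈ allL := mem_allL.2 (by omega)
  have h150 : (150 : ℕ) ∈ allL := mem_allL.2 (by omega)
  have h135 : (135 : ℕ) ∈ allL := mem_allL.2 (by omega)
  have hb' : ψ₂' ⟨toP bB, bB_mem⟩ = φ 150 * b := by
    show s * b * s⁻¹ = φ 150 * b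
    rw [inv_eq_of_mul_eq_one_right F.ss, ← e150, ← F.mul 96 s_mem_allL 54 h54, F.map_s, mul_assoc,
      mul_assoc, ← (mb s_mem_allL h54).2 eb, F.map_s]
  rw [← ha, hb']
  calc a * (φ 150 * b) * (a * (φ 150 * b)) = a * φ 150 * (b * a) * (φ 150 * b) := by group
    _ = a * φ 150 * (b * a) * (b * φ 150) := by rw [(mb h150 h150).2 ebx]
    _ = φ 135 * a * (b * a) * (b * φ 150) := by rw [(ma h150 h135).2 ea]
    _ = φ 135 * d * φ 150 := by rw [hd]; group
    _ = 1 := by
      rw [← hd0, F.mul 135 h135 189 hd0A, F.mul _ (mulC_mem h135 hd0A) 150 h150, etot, F.map_zero]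

end H55.SThree.Alt
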