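import Cfsg.Agent.H55.SThree.Alt.GraphFacts
import Mathlib.GroupTheory.SpecificGroups.Alternating
import Mathlib.GroupTheory.SpecificGroups.Alternating.Simple

/-!
The two affine groups generate a copy of the alternating group of degree eight: the graph of the
extensions has order at most `15 * 1344`.
-/

set_option autoImplicit false

namespace H55.SThree.Alt

theorem valid_inj : ∀ t ∈ validL 1, ∀ u ∈ validL 1, hP 1 t = hP 1 u → t = u :=
  fun _ ht _ hu h => List.inj_on_of_nodup_map (f := hP 1) (l := validL 1)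
    (by decide +kernel) ht hu h

variable {G : Type*} [Group G] {s : G} {Q : Subgroup G} {φ : ℕ → G}

/-- An element of the first affine group is a stabilizing element times a translation. -/
theorem aff_split (F : Frame s Q true false φ) {m : S8} (hm : m ∈ aff 1) :
    ∃ t ∈ validL 1, ∃ e ∈ eL 1, m = toP (hP 1 t) * P e := by
  have hk : (1 : ℕ) ∈ [1, 2] := by simp
  obtain ⟨e, he, hei, -⟩ := eL_regular 1 hk ((m⁻¹ : S8) 0 : ℕ) ((m⁻¹ : S8) 0).2
  have heA := eL_all hk he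
  set h := m * (P e)⁻¹ with hh
  have hhm : h ∈ aff 1 := mul_mem hm (inv_mem (P_mem_aff F hk heA))
  have hinv : (P e)⁻¹ = P e := by
    refine inv_eq_of_mul_eq_one_right ?_
    rw [← P_mul F heA heA, (eL_mul 1 hk e he e he).2.2, P_zero]
  have h0 : h 0 = 0 := by
    rw [hh, hinv, Equiv.Perm.mul_apply, show P e 0 = (m⁻¹ : S8) 0 from
      Fin.ext ((P_pt heA).trans hei), ← Equiv.Perm.mul_apply, mul_inv_cancel,
      Equiv.Perm.one_apply]
  have hP' : ∀ c ∈ eL 1, ∀ d ∈ eL 1, P (mulC true false c d) = P c * P d :=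
    fun c hc d hd => P_mul F (eL_all hk hc) (eL_all hk hd)
  obtain ⟨t, ht, r1, r2, r3⟩ := exists_triple hk (fun c d => h * P c = P d * h) (by simp [P_zero])
    (fun c hc d hd c' hc' d' hd' => rel_mul P hP' hc hd hc' hd')
    (fun c hc c' hc' d e e' => P_inj (eL_all hk hc) (eL_all hk hc')
      (mul_left_cancel (e.trans e'.symm)))
    (fun c hc => (mem_aff hk).1 hhm c hc)
  obtain ⟨hall, hcov⟩ := span_rel hk (fun c d => h * P c = P d * h) (by simp [P_zero])
    (fun c hc d hd c' hc' d' hd' => rel_mul P hP' hc hd hc' hd') ht r1 r2 r3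
  obtain ⟨ok, -, -, hdig⟩ := hP_spec 1 hk t ht
  refine ⟨t, ht, e, he, ?_⟩
  rw [show toP (hP 1 t) = h from Equiv.ext fun i => Fin.ext ?_, hh, inv_mul_cancel_right]
  obtain ⟨c, hc, hci, -⟩ := eL_regular 1 hk i i.2
  obtain ⟨p, hp, rfl⟩ := hcov c hc
  obtain ⟨-, h2, h3⟩ := hall p hp
  have hi : i = P p.1 0 := Fin.ext (hci.symm.trans (P_pt (eL_all hk hc)).symm)
  rw [toP_apply ok, ← hci, hdig p hp, hi, ← Equiv.Perm.mul_apply, h3, Equiv.Perm.mul_apply, h0,
    P_pt (eL_all hk h2)]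

theorem repP_ok {r : ℕ × ℕ} (hr : r ∈ repL) : okP (repP r) = true ∧ toP (repP r) = P r.1 * toP r.2 := by
  obtain ⟨h1, h2⟩ := repL_spec r hr
  have ok2 : okP r.2 = true := by
    have : ∀ x ∈ sL, okP x = true := by decide +kernel
    exact this _ h2
  exact ⟨okP_mul (rho_ok _ h1) ok2, toP_mul (rho_ok _ h1) ok2⟩

theorem sL_ok : ∀ x ∈ sL, okP x = true ∧ nrm (pE 1) x = true := by decide +kernel

theorem bB_not_aff : toP bB ∉ aff 1 := fun h => by
  have := (nrm_iff (pE_ok (by simp)) ab_spec.2.1).2 h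
  rw [bB_not] at this
  exact absurd this (by decide)

theorem hP_canon : ∀ u ∈ validL 1, mulP (hP 1 u) idP = hP 1 u := by decide +kernel

theorem split_inj (F : Frame s Q true false φ) {t t' : ℕ × ℕ × ℕ} {e e' : ℕ} (ht : t ∈ validL 1)
    (ht' : t' ∈ validL 1) (he : e ∈ eL 1) (he' : e' ∈ eL 1)
    (h : toP (hP 1 t) * P e = toP (hP 1 t') * P e') : t = t' ∧ e = e' := by
  have hk : (1 : ℕ) ∈ [1, 2] := by simp
  have heA := eL_all hk he
  have he'A := eL_all hk he'
  obtain ⟨ok, -, z, -⟩ := hP_spec 1 hk t ht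
  obtain ⟨ok', -, z', -⟩ := hP_spec 1 hk t' ht'
  have hz : ∀ {x}, okP x = true → dig x 0 = 0 → toP x 0 = 0 := fun o zz =>
    Fin.ext ((toP_apply o 0).trans zz)
  have key : ∀ (g g' p p' : S8), g * p = g' * p' → p * p = 1 → g 0 = 0 → g' 0 = 0 →
      (p' * p) 0 = 0 := fun g g' p p' h hp hg hg' => g'.injective (by
    have h1 := Equiv.congr_fun h (p 0)
    rw [Equiv.Perm.mul_apply, Equiv.Perm.mul_apply, ← Equiv.Perm.mul_apply p p, hp,
      Equiv.Perm.one_apply, hg] at h1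
    rw [Equiv.Perm.mul_apply, hg', ← h1])
  have h0' := key _ _ _ _ h (by rw [← P_mul F heA heA, (eL_mul 1 hk e he e he).2.2, P_zero])
    (hz ok z) (hz ok' z')
  rw [← P_mul F he'A heA] at h0'
  have hm0 := (eL_mul 1 hk e' he' e he).1
  have h2 : mulC true false e' e = 0 := H0_disjoint 1 hk _ hm0 (by
    rw [← P_pt (eL_all hk hm0), h0']; rfl)
  have hee : e = e' := by
    refine P_inj heA he'A ?_
    have h3 : P e' * P e = 1 := by rw [← P_mul F he'A heA, h2, P_zero]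
    have h4 : P e' * P e' = 1 := by
      rw [← P_mul F he'A he'A, (eL_mul 1 hk e' he' e' he').2.2, P_zero]
    exact mul_left_cancel (h3.trans h4.symm)
  subst hee
  have h6 := (mulP_iff ok idP_spec.1 ok' idP_spec.1).2 (by rw [mul_right_cancel h])
  rw [hP_canon _ ht, hP_canon _ ht'] at h6
  exact ⟨valid_inj t ht t' ht' h6, rfl⟩

theorem coset_outer {m n r : S8} (hm : m ∈ aff 1) (hn : n ∈ aff 1) (hr : r ∈ aff 1)
    (h : m = n * toP bB * r) : False := by
  refine bB_not_aff ?_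
  have : toP bB = n⁻¹ * m * r⁻¹ := by rw [h]; group
  rw [this]
  exact mul_mem (mul_mem (inv_mem hn) hm) (inv_mem hr)

theorem coset_inj {m n : S8} (hm : m ∈ aff 1) (hn : n ∈ aff 1) {r r' : ℕ × ℕ} (hr : r ∈ repL)
    (hr' : r' ∈ repL) (h : m * toP bB * toP (repP r) = n * toP bB * toP (repP r')) :
    r = r' ∧ m = n := by
  have hk : (1 : ℕ) ∈ [1, 2] := by simp
  obtain ⟨-, ob, -, -, -, hb2', -⟩ := ab_spec
  obtain ⟨v, -, hp⟩ := rep_zip.2.2 r hr
  obtain ⟨v', -, hp'⟩ := rep_zip.2.2 r' hr'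
  obtain ⟨ov, hv⟩ := rinv_spec _ hp'
  have o1 := okP_mul (repP_ok hr).1 ov
  have o2 := okP_mul ob o1
  have hinv : toP v' = (toP (repP r'))⁻¹ := by
    refine eq_inv_of_mul_eq_one_left ?_
    rw [← toP_mul ov (repP_ok hr').1, hv, toP_idP]
  have hb1 : toP bB * toP bB = 1 := by rw [← toP_mul ob ob, hb2', toP_idP]
  have hmem : toP (mulP (mulP bB (mulP (repP r) v')) bB) ∈ aff 1 := by
    rw [toP_mul o2 ob, toP_mul ob o1, toP_mul (repP_ok hr).1 ov, hinv]
    have e1 : toP bB * (toP (repP r) * (toP (repP r'))⁻¹) * toP bB = m⁻¹ * n := by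
      calc toP bB * (toP (repP r) * (toP (repP r'))⁻¹) * toP bB
          = m⁻¹ * (m * toP bB * toP (repP r)) * (toP (repP r'))⁻¹ * toP bB := by group
        _ = m⁻¹ * n * (toP bB * toP bB) := by rw [h]; group
        _ = _ := by rw [hb1, mul_one]
    rw [e1]
    exact mul_mem (inv_mem hm) hn
  have hpq := rep_apart _ hp _ hp' ((nrm_iff (pE_ok hk) (okP_mul o2 ob)).2 hmem)
  obtain rfl : r = r' := congrArg Prod.fst hpq
  exact ⟨rfl, mul_right_cancel (mul_right_cancel h)⟩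

set_option maxHeartbeats 800000 in
/-- The two affine groups give a copy of `A₈` containing `C(s)`. -/
theorem exists_copy [Finite G] (W : TwoData s Q φ) :
    ∃ G0 : Subgroup G, Nonempty (G0 ≃* alternatingGroup (Fin 8)) ∧
      Subgroup.centralizer ({s} : Set G) ≤ G0 := by
  classical
  have F := W.frame
  have hk : (1 : ℕ) ∈ [1, 2] := by simp
  obtain ⟨ψ₁, ψ₂, E₁, E₂, hab⟩ := exists_pair W
  obtain ⟨oa, ob, -, -, -, hb2', hab'⟩ := ab_spec
  let ι : aff 1 →* S8 × G := (aff 1).subtype.prod ψ₁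
  let β : S8 × G := (toP bB, ψ₂ ⟨toP bB, bB_mem⟩)
  have hι : ∀ m : aff 1, ι m = ((m : S8), ψ₁ m) := fun _ => rfl
  let ρ : ℕ → S8 × G := fun c => (P c, φ c)
  have hρ : ∀ c, ∀ hc : c ∈ allL, ι ⟨P c, P_mem_aff F hk hc⟩ = ρ c := fun c hc =>
    Prod.ext rfl (E₁.agree c hc _)
  have hββ : β * β = 1 := Prod.ext
    (show toP bB * toP bB = 1 by rw [← toP_mul ob ob, hb2', toP_idP]) (invol_of ψ₂ ob bB_mem hb2')
  -- products inside the second affine group
  have hβρ : ∀ c ∈ allL, ∀ d ∈ allL, mulP bB (rho c) = mulP (rho d) bB → β * ρ c = ρ d * β :=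
    fun c hc d hd h => Prod.ext
      ((mulP_iff ob (rho_ok c hc) (rho_ok d hd) ob).1 h)
      ((move F E₂ (by simp) ob bB_mem hc hd).2 h)
  have key2 : ∀ c, ∀ hc : c ∈ allL, β * ρ c * β = (toP bB * P c * toP bB,
      ψ₂ (⟨toP bB, bB_mem⟩ * ⟨P c, P_mem_aff F (by simp) hc⟩ * ⟨toP bB, bB_mem⟩)) := fun c hc =>
    Prod.ext rfl (by rw [map_mul, map_mul, E₂.agree c hc]; rfl)
  -- the part moved into the first affine group
  let Good : aff 1 → Prop := fun g => ∃ t, β * ι g = ι t * β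
  have good_mul : ∀ g g', Good g → Good g' → Good (g * g') := by
    rintro g g' ⟨t, ht⟩ ⟨t', ht'⟩
    exact ⟨t * t', by rw [map_mul, ← mul_assoc, ht, mul_assoc, ht', ← mul_assoc, ← map_mul]⟩
  have good_back : ∀ g, Good g → ∃ t, ι g * β = β * ι t := by
    rintro g ⟨t, ht⟩
    refine ⟨t, ?_⟩
    calc ι g * β = β * β * ι g * β := by rw [hββ, one_mul]
      _ = β * (β * ι g) * β := by rw [mul_assoc β β]
      _ = β * ι t * (β * β) := by rw [ht]; group
      _ = β * ι t := by rw [hββ, mul_one]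
  have good_code : ∀ c ∈ jL, ∀ h : P c ∈ aff 1, Good ⟨P c, h⟩ := by
    intro c hc h
    obtain ⟨hcA, c1, h1, e⟩ := jL_move c hc
    exact ⟨⟨P c1, P_mem_aff F hk h1⟩, by rw [hρ c hcA, hρ c1 h1]; exact hβρ c hcA c1 h1 e⟩
  have good_a : Good ⟨toP aA, aA_mem⟩ := ⟨⟨toP aA, aA_mem⟩, Prod.ext
    ((mulP_iff ob oa oa ob).1 hab'.symm) hab.eq.symm⟩
  have good_sL : ∀ x ∈ sL, ∀ h : toP x ∈ aff 1, Good ⟨toP x, h⟩ := by
    intro x hx h
    have hjA : ∀ c ∈ jL, c ∈ allL := fun c hc => (jL_move c hc).1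
    have h6 : (6 : ℕ) ∈ jL := by decide
    simp only [sL, List.mem_append, List.mem_map] at hx
    rcases hx with (⟨c, hc, rfl⟩ | ⟨c, hc, rfl⟩) | ⟨c, hc, rfl⟩
    · exact good_code c hc h
    · have e : (⟨toP (mulP (rho c) aA), h⟩ : aff 1) =
          ⟨P c, P_mem_aff F hk (hjA c hc)⟩ * ⟨toP aA, aA_mem⟩ :=
        Subtype.ext (toP_mul (rho_ok c (hjA c hc)) oa)
      rw [e]
      exact good_mul _ _ (good_code c hc _) good_a
    · have o1 := okP_mul (rho_ok c (hjA c hc)) oa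
      have e : (⟨toP (mulP (mulP (rho c) aA) (rho 6)), h⟩ : aff 1) =
          ⟨P c, P_mem_aff F hk (hjA c hc)⟩ * ⟨toP aA, aA_mem⟩ *
            ⟨P 6, P_mem_aff F hk (hjA 6 h6)⟩ :=
        Subtype.ext (by
          show toP (mulP (mulP (rho c) aA) (rho 6)) = P c * toP aA * P 6
          rw [toP_mul o1 (rho_ok 6 (hjA 6 h6)), toP_mul (rho_ok c (hjA c hc)) oa]
          rfl)
      rw [e]
      exact good_mul _ _ (good_mul _ _ (good_code c hc _) good_a) (good_code 6 h6 _)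
  have s_mem : ∀ x ∈ sL, toP x ∈ aff 1 := fun x hx =>
    (nrm_iff (pE_ok hk) (sL_ok x hx).1).1 (sL_ok x hx).2
  have rep_mem : ∀ r ∈ repL, toP (repP r) ∈ aff 1 := fun r hr => by
    rw [(repP_ok hr).2]
    exact mul_mem (P_mem_aff F hk (repL_spec r hr).1) (s_mem _ (repL_spec r hr).2)
  -- coset decomposition
  have step : ∀ m : aff 1, ∀ x, okP x = true → toP x = (m : S8) →
      ∀ p ∈ repL.zip rinvL, mulP x p.2 ∈ sL →
        ∃ g, Good g ∧ ∃ hr : p.1 ∈ repL, m = g * ⟨toP (repP p.1), rep_mem p.1 hr⟩ := by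
    intro m x ox ex p hp hin
    have hr : p.1 ∈ repL := (List.of_mem_zip hp).1
    obtain ⟨ov, hv⟩ := rinv_spec p hp
    refine ⟨_, good_sL _ hin (s_mem _ hin), hr, Subtype.ext ?_⟩
    show (m : S8) = toP (mulP x p.2) * toP (repP p.1)
    rw [toP_mul ox ov, mul_assoc, ← toP_mul ov (repP_ok hr).1, hv, toP_idP, mul_one, ex]
  have decomp : ∀ m : aff 1, ∃ r, ∃ hr : r ∈ repL, ∃ g, Good g ∧
      m = g * ⟨toP (repP r), rep_mem r hr⟩ := by
    intro m
    obtain ⟨t, ht, e, he, hm⟩ := aff_split F m.2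
    have heA := eL_all hk he
    obtain ⟨ok, nE, -, -⟩ := hP_spec 1 hk t ht
    obtain ⟨p, hp, hin⟩ := cover_stab t ht
    obtain ⟨g, hg, hr, e1⟩ :=
      step ⟨toP (hP 1 t), (nrm_iff (pE_ok hk) ok).1 nE⟩ _ ok rfl p hp hin
    obtain ⟨q, hq, hin'⟩ := cover_move p.1 hr e he
    obtain ⟨g', hg', hr', e2⟩ :=
      step (⟨toP (repP p.1), rep_mem p.1 hr⟩ * ⟨P e, P_mem_aff F hk heA⟩) _
        (okP_mul (repP_ok hr).1 (rho_ok e heA)) (toP_mul (repP_ok hr).1 (rho_ok e heA)) q hq hin'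
    refine ⟨q.1, hr', g * g', good_mul g g' hg hg', ?_⟩
    rw [show m = ⟨toP (hP 1 t), (nrm_iff (pE_ok hk) ok).1 nE⟩ * ⟨P e, P_mem_aff F hk heA⟩ from
      Subtype.ext hm, e1, mul_assoc, e2, mul_assoc]
  -- the set of the fifteen cosets
  let InU : S8 × G → Prop := fun x => (∃ m, x = ι m) ∨ ∃ m m', x = ι m * β * ι m'
  have inU_right : ∀ x, InU x → ∀ m, InU (x * ι m) := by
    rintro x (⟨n, rfl⟩ | ⟨n, n', rfl⟩) m
    · exact Or.inl ⟨n * m, (map_mul ι n m).symm⟩
    · exact Or.inr ⟨n, n' * m, by rw [map_mul, ← mul_assoc]⟩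
  have inU_left : ∀ x, InU x → ∀ m, InU (ι m * x) := by
    rintro x (⟨n, rfl⟩ | ⟨n, n', rfl⟩) m
    · exact Or.inl ⟨m * n, (map_mul ι m n).symm⟩
    · exact Or.inr ⟨m * n, n', by rw [map_mul, ← mul_assoc, ← mul_assoc]⟩
  have core : ∀ m : aff 1, InU (β * ι m * β) := by
    intro m
    obtain ⟨r, hr, g, ⟨t, ht⟩, rfl⟩ := decomp m
    obtain ⟨h1, h2⟩ := repL_spec r hr
    obtain ⟨t', ht'⟩ := good_back _ (good_sL _ h2 (s_mem _ h2))
    have e : (⟨toP (repP r), rep_mem r hr⟩ : aff 1) =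
        ⟨P r.1, P_mem_aff F hk h1⟩ * ⟨toP r.2, s_mem _ h2⟩ := Subtype.ext (repP_ok hr).2
    have hmid : InU (β * ρ r.1 * β) := by
      have hfst := repL_fst r hr
      obtain ⟨p, hp, hp1⟩ : ∃ p ∈ [(0, 0, 0), (1, 8, 125), (4, 8, 107), (12, 12, 162),
          (13, 7, 158), (16, 7, 92)], p.1 = r.1 := by
        simp only [List.mem_cons, List.not_mem_nil, or_false] at hfst
        rcases hfst with h | h | h | h | h | h <;> rw [h] <;> simp
      obtain ⟨k1, k2, hk12⟩ := table_move p hp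
      rw [hp1] at hk12
      have ob1 := okP_mul ob (rho_ok _ h1)
      rw [key2 r.1 h1]
      rcases hk12 with h | h
      · refine Or.inl ⟨⟨P p.2.1, P_mem_aff F hk k1⟩, ?_⟩
        have h' : toP bB * P r.1 * toP bB = P p.2.1 := by
          rw [P, P, ← h, toP_mul ob1 ob, toP_mul ob (rho_ok _ h1)]
        rw [hρ _ k1]
        exact Prod.ext h' ((congrArg ψ₂ (Subtype.ext h')).trans
          (E₂.agree _ k1 (P_mem_aff F (by simp) k1)))
      · refine Or.inr ⟨⟨P p.2.1, P_mem_aff F hk k1⟩, ⟨P p.2.2, P_mem_aff F hk k2⟩, ?_⟩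
        have h' : toP bB * P r.1 * toP bB = P p.2.1 * toP bB * P p.2.2 := by
          rw [P, P, P, ← toP_mul ob (rho_ok _ h1), ← toP_mul ob1 ob, h,
            toP_mul (okP_mul (rho_ok _ k1) ob) (rho_ok _ k2), toP_mul (rho_ok _ k1) ob]
        rw [hρ _ k1, hρ _ k2]
        refine Prod.ext h' ?_
        have heq : ⟨toP bB, bB_mem⟩ * ⟨P r.1, P_mem_aff F (by simp) h1⟩ * ⟨toP bB, bB_mem⟩ =
            (⟨P p.2.1, P_mem_aff F (by simp) k1⟩ * ⟨toP bB, bB_mem⟩ *
              ⟨P p.2.2, P_mem_aff F (by simp) k2⟩ : aff 2) := Subtype.ext h'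
        refine (congrArg ψ₂ heq).trans ?_
        rw [map_mul, map_mul, E₂.agree _ k1, E₂.agree _ k2]
        rfl
    have hm : β * ι (g * ⟨toP (repP r), rep_mem r hr⟩) * β = ι t * (β * ρ r.1 * β) * ι t' := by
      rw [e, map_mul, map_mul, hρ _ h1]
      calc β * (ι g * (ρ r.1 * ι ⟨toP r.2, s_mem _ h2⟩)) * β
          = β * ι g * ρ r.1 * (ι ⟨toP r.2, s_mem _ h2⟩ * β) := by group
        _ = ι t * (β * ρ r.1 * β) * ι t' := by rw [ht, ht']; group
    rw [hm]
    exact inU_right _ (inU_left _ hmid t) t'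
  have inU_beta : ∀ x, InU x → InU (x * β) := by
    rintro x (⟨n, rfl⟩ | ⟨n, n', rfl⟩)
    · exact Or.inr ⟨n, 1, by rw [map_one, mul_one]⟩
    · rw [show ι n * β * ι n' * β = ι n * (β * ι n' * β) by group]
      exact inU_left _ (core n') n
  let M : Submonoid (S8 × G) :=
    { carrier := {x | InU x}
      one_mem' := Or.inl ⟨1, (map_one ι).symm⟩
      mul_mem' := by
        rintro x y hx (⟨n, rfl⟩ | ⟨n, n', rfl⟩)
        · exact inU_right x hx n
        · rw [← mul_assoc, ← mul_assoc]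
          exact inU_right _ (inU_beta _ (inU_right x hx n)) n' }
  let U : Subgroup (S8 × G) := { M with
    inv_mem' := fun {x} hx => by
      have h : Submonoid.powers x ≤ M := Submonoid.powers_le.2 hx
      exact h ((mem_powers_iff_mem_zpowers (x := x)).2 (inv_mem (Subgroup.mem_zpowers x))) }
  -- at most fifteen cosets
  let Ix := {t // t ∈ (validL 1).toFinset} × {e // e ∈ (eL 1).toFinset} ×
    Option {r // r ∈ repL.toFinset}
  let el : {t // t ∈ (validL 1).toFinset} → {e // e ∈ (eL 1).toFinset} → aff 1 := fun t e =>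
    ⟨toP (hP 1 t) * P e, mul_mem
      ((nrm_iff (pE_ok hk) (hP_spec 1 hk t (List.mem_toFinset.1 t.2)).1).1
        (hP_spec 1 hk t (List.mem_toFinset.1 t.2)).2.1)
      (P_mem_aff F hk (eL_all hk (List.mem_toFinset.1 e.2)))⟩
  let co : Ix → U := fun x => match x with
    | (t, e, none) => ⟨ι (el t e), Or.inl ⟨_, rfl⟩⟩
    | (t, e, some r) => ⟨ι (el t e) * β * ι ⟨toP (repP r), rep_mem r (List.mem_toFinset.1 r.2)⟩,
        Or.inr ⟨_, _, rfl⟩⟩
  have el_surj : ∀ m : aff 1, ∃ t e, el t e = m := fun m => by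
    obtain ⟨t, ht, e, he, h⟩ := aff_split F m.2
    exact ⟨⟨t, List.mem_toFinset.2 ht⟩, ⟨e, List.mem_toFinset.2 he⟩, Subtype.ext h.symm⟩
  have co_surj : Function.Surjective co := by
    rintro ⟨x, ⟨m, rfl⟩ | ⟨m, m', rfl⟩⟩
    · obtain ⟨t, e, rfl⟩ := el_surj m
      exact ⟨(t, e, none), rfl⟩
    · obtain ⟨r, hr, g, ⟨t', ht'⟩, rfl⟩ := decomp m'
      obtain ⟨t, e, he⟩ := el_surj (m * t')
      refine ⟨(t, e, some ⟨r, List.mem_toFinset.2 hr⟩), Subtype.ext ?_⟩
      show ι (el t e) * β * ι _ = ι m * β * ι (g * _)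
      rw [he, map_mul ι m, map_mul ι g, mul_assoc (ι m) (ι t'), ← ht']
      group
  have hIx : Nat.card Ix = 20160 := by
    have h8 : (eL 1).toFinset.card = 8 := by decide
    simp only [Ix, Nat.card_eq_fintype_card, Fintype.card_coe,
      Fintype.card_option, Fintype.card_prod, List.toFinset_card_of_nodup (validL_card 1 hk).2,
      (validL_card 1 hk).1, h8, List.toFinset_card_of_nodup rep_zip.2.1, rep_zip.1]
  have hU : Nat.card U ≤ 20160 := hIx ▸ Nat.card_le_card_of_surjective co co_surj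
  -- the projection
  let π : U →* S8 := (MonoidHom.fst S8 G).comp U.subtype
  have pi_none : ∀ t e, π (co (t, e, none)) = (el t e : S8) := fun t e => rfl
  have pi_some : ∀ t e r, π (co (t, e, some r)) = (el t e : S8) * toP bB * toP (repP r.1) :=
    fun t e r => rfl
  have pi_inj : Function.Injective (fun x => π (co x)) := by
    have el_inj : ∀ t e t' e', (el t e : S8) = el t' e' → t = t' ∧ e = e' := fun t e t' e' h => by
      obtain ⟨h1, h2⟩ := split_inj F (List.mem_toFinset.1 t.2) (List.mem_toFinset.1 t'.2)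
        (List.mem_toFinset.1 e.2) (List.mem_toFinset.1 e'.2) h
      exact ⟨Subtype.ext h1, Subtype.ext h2⟩
    rintro ⟨t, e, o⟩ ⟨t', e', o'⟩ h
    rcases o with _ | r <;> rcases o' with _ | r'
    · simp only [pi_none] at h
      obtain ⟨rfl, rfl⟩ := el_inj t e t' e' h
      rfl
    · simp only [pi_none, pi_some] at h
      exact (coset_outer (el t e).2 (el t' e').2 (rep_mem r'.1 (List.mem_toFinset.1 r'.2)) h).elim
    · simp only [pi_none, pi_some] at h
      exact (coset_outer (el t' e').2 (el t e).2 (rep_mem r.1 (List.mem_toFinset.1 r.2)) h.symm).elim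
    · simp only [pi_some] at h
      obtain ⟨hrr, hm⟩ := coset_inj (el t e).2 (el t' e').2 (List.mem_toFinset.1 r.2)
        (List.mem_toFinset.1 r'.2) h
      obtain rfl : r = r' := Subtype.ext hrr
      obtain ⟨rfl, rfl⟩ := el_inj t e t' e' hm
      rfl
  have co_inj : Function.Injective co := fun x y h => pi_inj (congrArg π h)
  have hπ : Function.Injective π := by
    intro x y h
    obtain ⟨i, rfl⟩ := co_surj x
    obtain ⟨j, rfl⟩ := co_surj y
    rw [pi_inj h]
  have hUcard : Nat.card U = 20160 := le_antisymm hU (hIx ▸ Nat.card_le_card_of_injective co co_inj)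
  have hrange : π.range = alternatingGroup (Fin 8) := by
    refine Equiv.Perm.eq_alternatingGroup_of_index_eq_two ?_
    have h1 : Nat.card π.range = 20160 := by
      rw [← Nat.card_congr (MonoidHom.ofInjective hπ).toEquiv, hUcard]
    have h2 := Subgroup.card_mul_index π.range
    rw [h1, Nat.card_perm, Nat.card_fin, show Nat.factorial 8 = 40320 by rfl] at h2
    omega
  let e8 : U ≃* alternatingGroup (Fin 8) :=
    (MonoidHom.ofInjective hπ).trans (MulEquiv.subgroupCongr hrange)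
  let f : U →* G := (MonoidHom.snd S8 G).comp U.subtype
  have hf : Function.Injective f := by
    have hsimp : IsSimpleGroup (alternatingGroup (Fin 8)) :=
      alternatingGroup.isSimpleGroup (by simp)
    have : IsSimpleGroup U := MulEquiv.isSimpleGroup e8
    rw [← MonoidHom.ker_eq_bot_iff]
    refine (f.normal_ker.eq_bot_or_eq_top).resolve_right fun htop => F.s_ne ?_
    have hm : (⟨ρ 96, Or.inl ⟨_, (hρ 96 s_mem_allL).symm⟩⟩ : U) ∈ f.ker := htop ▸ Subgroup.mem_top _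
    rw [← F.map_s]
    exact hm
  refine ⟨f.range, ⟨(MonoidHom.ofInjective hf).symm.trans e8⟩, fun g hg => ?_⟩
  obtain ⟨c, hc, rfl⟩ := F.surj g hg
  exact ⟨⟨ρ c, Or.inl ⟨_, (hρ c hc).symm⟩⟩, rfl⟩

end H55.SThree.Alt
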