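import Cfsg.Agent.H55.SThree.Alt.Model

/-! Evaluations for the choice of a complement. -/

set_option autoImplicit false

namespace H55.SThree.Alt

/-- The cube of a product. -/
def rel3 (p q : ℕ) : ℕ :=
  let a := mulC true false p q
  mulC true false (mulC true false a a) a

/-- The square of a product. -/
def rel2 (p q : ℕ) : ℕ :=
  let a := mulC true false p q
  mulC true false a a

/-- Products of the generators of the point stabilizer, of bounded length. -/
def wL : ℕ → List ℕ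
  | 0 => [0]
  | n + 1 => (wL n ++ (wL n).flatMap fun c =>
      [gS.1, gS.2.1, gS.2.2].map (mulC true false c)).dedup

theorem gS_spec : (gS.1 ∈ allL ∧ gS.2.1 ∈ allL ∧ gS.2.2 ∈ allL) ∧
    (pt gS.1 = 0 ∧ pt gS.2.1 = 0 ∧ pt gS.2.2 = 0) ∧
    (mulC true false gS.1 gS.1 = 0 ∧ mulC true false gS.2.1 gS.2.1 = 0 ∧
      mulC true false gS.2.2 gS.2.2 = 0) ∧
    rel3 gS.1 gS.2.1 = 0 ∧ rel3 gS.2.1 gS.2.2 = 0 ∧ rel2 gS.1 gS.2.2 = 0 := by decide +kernel

theorem H0_gen : ∀ k ∈ [1, 2], ∀ c ∈ allL, ∃ e ∈ eL k, ∃ d ∈ wL 6, mulC true false e d = c := by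
  decide +kernel

theorem H0_disjoint : ∀ k ∈ [1, 2], ∀ e ∈ eL k, pt e = 0 → e = 0 := by decide +kernel

theorem H0_stab : (∀ d ∈ wL 6, d ∈ allL ∧ pt d = 0) ∧
    ∀ c ∈ wL 6, ∀ d ∈ wL 6, mulC true false c d ∈ wL 6 := by decide +kernel

theorem lift_one : ∀ k ∈ [1, 2], ∀ e ∈ eL k,
    mulC true false (mulC true false 1 e) (mulC true false 1 e) = 0 →
    ∃ l ∈ allL, conjC true false l 1 = mulC true false 1 e ∨
      conjC true false l 97 = mulC true false 1 e := by decide +kernel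

theorem basis_ne : ∀ k ∈ [1, 2],
    (basis k).1 ≠ 0 ∧ (basis k).2.1 ≠ 0 ∧ (basis k).2.1 ≠ (basis k).1 ∧ (basis k).2.2 ≠ 0 ∧
    (basis k).2.2 ≠ (basis k).1 ∧ (basis k).2.2 ≠ (basis k).2.1 ∧
    (basis k).2.2 ≠ mulC true false (basis k).1 (basis k).2.1 := by decide +kernel

theorem tS_spec : ∀ k ∈ [1, 2],
    (mulC true false (tS k).1 (tS k).1 = 0 ∧ mulC true false (tS k).2.1 (tS k).2.1 = 0 ∧
      mulC true false (tS k).2.2 (tS k).2.2 = 0) ∧
    rel3 (tS k).1 (tS k).2.1 = 0 ∧ rel3 (tS k).2.1 (tS k).2.2 = 0 ∧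
    rel2 (tS k).1 (tS k).2.2 = 0 ∧
    ((tS k).1 ∈ allL ∧ (tS k).2.1 ∈ allL ∧ (tS k).2.2 ∈ allL) ∧
    (nrm (pT k) (rho (tS k).1) = true ∧ nrm (pT k) (rho (tS k).2.1) = true ∧
      nrm (pT k) (rho (tS k).2.2) = true) := by decide +kernel

theorem base_conj : ∀ k ∈ [1, 2],
    ((∃ l ∈ allL, conjC true false l 1 = gS.1) ∧ (∃ l ∈ allL, conjC true false l 1 = gS.2.1) ∧
      ∃ l ∈ allL, conjC true false l 1 = gS.2.2) ∧
    ((∃ l ∈ allL, conjC true false l 97 = (tS k).1) ∧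
      (∃ l ∈ allL, conjC true false l 97 = (tS k).2.1) ∧
      ∃ l ∈ allL, conjC true false l 97 = (tS k).2.2) ∧
    ((tS k).1 ∈ (eL k).map (mulC true false gS.1) ∧
      (tS k).2.1 ∈ (eL k).map (mulC true false gS.2.1) ∧
      (tS k).2.2 ∈ (eL k).map (mulC true false gS.2.2)) := by decide +kernel

/-- Elements of the affine groups moving the products to the base involutions. -/
def wit (k : ℕ) (b : Bool) : ℕ :=
  if k = 1 then (if b then 16204440 else 12534872) else 16205392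

theorem wit_spec : ∀ k ∈ [1, 2], ∀ b : Bool,
    okP (wit k b) = true ∧ nrm (pE k) (wit k b) = true ∧
    mulP (wit k b)
        (rho (mulC true false (if b then (tS k).1 else gS.1) (if b then (tS k).2.2 else gS.2.2))) =
      mulP (rho (if b then 97 else 1)) (wit k b) := by decide +kernel

theorem lifts_conj : ∀ k ∈ [1, 2], ∀ p ∈ (eL k).map (mulC true false gS.1),
    ∀ q ∈ (eL k).map (mulC true false gS.2.1), ∀ r ∈ (eL k).map (mulC true false gS.2.2),
    mulC true false p p = 0 → mulC true false q q = 0 → mulC true false r r = 0 →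
    rel3 p q = 0 → rel3 q r = 0 → rel2 p r = 0 →
    p ∉ kL → q ∉ kL → r ∉ kL → mulC true false p r ∉ kL →
    ∃ l ∈ allL, conjC true false l gS.1 = p ∧ conjC true false l gS.2.1 = q ∧
      conjC true false l gS.2.2 = r := by decide +kernel

end H55.SThree.Alt
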