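import Cfsg.Agent.H55.SThree.Alt.Affine

/-!
The complement through the point stabilizer of the table, and the isomorphism extending the table.
-/

set_option autoImplicit false

namespace H55.SThree.Alt

variable {G : Type*} [Group G] {s : G} {Q D : Subgroup G} {φ : ℕ → G} {k : ℕ}

theorem eval_rel3 (F : Frame s Q true false φ) {M : Type*} [Group M] (f : ℕ → M)
    (hf : ∀ c ∈ allL, ∀ d ∈ allL, f (mulC true false c d) = f c * f d) {p q : ℕ} (hp : p ∈ allL)
    (hq : q ∈ allL) :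
    f (rel3 p q) = (f p * f q) * (f p * f q) * (f p * f q) ∧
      f (rel2 p q) = (f p * f q) * (f p * f q) ∧ rel3 p q ∈ allL ∧ rel2 p q ∈ allL := by
  have a := mulC_mem hp hq
  exact ⟨by rw [rel3, hf _ (mulC_mem a a) _ a, hf _ a _ a, hf p hp q hq],
    by rw [rel2, hf _ a _ a, hf p hp q hq], mulC_mem (mulC_mem a a) a, mulC_mem a a⟩

/-- Conjugate complements. -/
theorem compl_conj [Finite G] {H : Subgroup G} (hH : Compl D H) {g : G}
    (hg : g ∈ Subgroup.normalizer (D : Set G)) :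
    Compl D (H.map (MulAut.conj g).toMonoidHom) := by
  refine ⟨?_, ?_, ?_⟩
  · rintro _ ⟨h, hh, rfl⟩
    exact mul_mem (mul_mem hg (hH.le hh)) (inv_mem hg)
  · rintro _ ⟨h, hh, rfl⟩ hD
    have h1 : h = 1 := hH.disj h hh ((Subgroup.mem_normalizer_iff.1 hg h).2 hD)
    rw [h1, map_one]
  · rw [Subgroup.card_map_of_injective (MulAut.conj g).injective]
    exact hH.card

/-- The second class of complements. -/
theorem compl_twist [Finite G] (F : Frame s Q true false φ) (hk : k ∈ [1, 2])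
    (T : Trans s φ k D) (ψ : aff k →* G) (hinj : Function.Injective ψ)
    (hD : ∀ c ∈ eL k, ∀ hc : P c ∈ aff k, ψ ⟨P c, hc⟩ = φ c)
    (hN : ∀ m, ψ m ∈ Subgroup.normalizer (D : Set G)) :
    Compl D (((normP (pT k)).subgroupOf (aff k)).map ψ) := by
  classical
  refine ⟨?_, ?_, ?_⟩
  · rintro _ ⟨m, -, rfl⟩; exact hN m
  · rintro _ ⟨m, hm, rfl⟩ hmD
    obtain ⟨c, hc, e⟩ := (T.mem_D _).1 hmD
    have hcA := eL_all hk hc
    rw [← hD c hc (P_mem_aff F hk hcA)] at e
    have e' : P c = (m : S8) := congrArg Subtype.val (hinj e)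
    have h1 : nrm (pT k) (rho c) = true :=
      (nrm_iff (pT_ok k hk) (rho_ok c hcA)).2 (show P c ∈ _ from e' ▸ hm)
    have : m = 1 := Subtype.ext (by rw [← e', pT_disjoint k hk c hc h1, P_zero]; rfl)
    rw [this, map_one]
  · rw [Subgroup.card_map_of_injective hinj]
    obtain ⟨h168, hnd⟩ := tL_card k hk
    have hmem : ∀ a ∈ tL k, okP a = true ∧ toP a ∈ aff k ∧ toP a ∈ normP (pT k) ∧
        mulP a idP = a := by
      intro a ha
      obtain ⟨ha, hn⟩ := List.mem_filter.1 ha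
      obtain ⟨h, hh, ha⟩ := List.mem_flatMap.1 ha
      obtain ⟨t, ht, rfl⟩ := List.mem_map.1 hh
      obtain ⟨r, hr, rfl⟩ := List.mem_map.1 ha
      obtain ⟨ok, nE, -, -⟩ := hP_spec k hk t ht
      have okr := rho_ok r (eL_all hk hr)
      have okm := okP_mul okr ok
      refine ⟨okm, ?_, (nrm_iff (pT_ok k hk) okm).1 hn, ?_⟩
      · rw [toP_mul okr ok]
        exact mul_mem (P_mem_aff F hk (eL_all hk hr)) ((nrm_iff (pE_ok hk) ok).1 nE)
      · simp only [mulP, pack, idP_spec.2 0 (by omega), idP_spec.2 1 (by omega),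
          idP_spec.2 2 (by omega), idP_spec.2 3 (by omega), idP_spec.2 4 (by omega),
          idP_spec.2 5 (by omega), idP_spec.2 6 (by omega), idP_spec.2 7 (by omega)]
        have d := fun i (hi : i < 8) =>
          dig_pack (fun i => dig (rho r) (dig (hP k t) i)) (fun _ => dig_lt _ _) hi
        unfold pack at d
        simp only [d 0 (by omega), d 1 (by omega), d 2 (by omega), d 3 (by omega), d 4 (by omega),
          d 5 (by omega), d 6 (by omega), d 7 (by omega)]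
    let f : (tL k).toFinset → (normP (pT k)).subgroupOf (aff k) := fun a =>
      ⟨⟨toP a, (hmem a (List.mem_toFinset.1 a.2)).2.1⟩,
        Subgroup.mem_subgroupOf.2 (hmem a (List.mem_toFinset.1 a.2)).2.2.1⟩
    have hf : Function.Injective f := by
      intro a b e
      obtain ⟨oa, -, -, ca⟩ := hmem a (List.mem_toFinset.1 a.2)
      obtain ⟨ob, -, -, cb⟩ := hmem b (List.mem_toFinset.1 b.2)
      have e' : toP (a : ℕ) = toP (b : ℕ) := congrArg (fun x => ((x.1 : aff k) : S8)) e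
      have := (mulP_iff oa idP_spec.1 ob idP_spec.1).2 (by rw [e'])
      exact Subtype.ext (by rwa [ca, cb] at this)
    have := Nat.card_le_card_of_injective f hf
    rw [Nat.card_eq_fintype_card, Fintype.card_coe, List.toFinset_card_of_nodup hnd] at this
    omega

/-- A complement through the point stabilizer, from a triple avoiding the class of `s`. -/
theorem good_of_triple [Finite G] (F : Frame s Q true false φ) (hk : k ∈ [1, 2])
    (T : Trans s φ k D) (hK : ∀ c ∈ allL, IsConj s (φ c) ↔ c ∈ kL) (ψ : aff k →* G)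
    (hM : ∀ m : aff k, Match φ k m (ψ m)) {H : Subgroup G} (hH : Compl D H) {b t1 t2 t3 w : ℕ}
    (hb : b ∈ allL) (ht1 : t1 ∈ allL) (ht2 : t2 ∈ allL) (ht3 : t3 ∈ allL)
    (hr : mulC true false t1 t1 = 0 ∧ mulC true false t2 t2 = 0 ∧ mulC true false t3 t3 = 0)
    (hr3 : rel3 t1 t2 = 0) (hr3' : rel3 t2 t3 = 0) (hr2 : rel2 t1 t3 = 0)
    (hc : (∃ l ∈ allL, conjC true false l b = t1) ∧ (∃ l ∈ allL, conjC true false l b = t2) ∧
      ∃ l ∈ allL, conjC true false l b = t3)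
    (hg : t1 ∈ (eL k).map (mulC true false gS.1) ∧ t2 ∈ (eL k).map (mulC true false gS.2.1) ∧
      t3 ∈ (eL k).map (mulC true false gS.2.2))
    (hw : okP w = true ∧ nrm (pE k) w = true ∧
      mulP w (rho (mulC true false t1 t3)) = mulP (rho b) w)
    (hmem : ∀ t ∈ [t1, t2, t3], ∀ ht : P t ∈ aff k, ψ ⟨P t, ht⟩ ∈ H)
    (hbK : ∀ hb : P b ∈ aff k, ¬ IsConj s (ψ ⟨P b, hb⟩)) :
    ∃ H', Compl D H' ∧ φ gS.1 ∈ H' ∧ φ gS.2.1 ∈ H' ∧ φ gS.2.2 ∈ H' := by
  classical
  let f : ℕ → G := fun c => if h : c ∈ allL then ψ ⟨P c, P_mem_aff F hk h⟩ else 1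
  have hfe : ∀ c, ∀ h : c ∈ allL, f c = ψ ⟨P c, P_mem_aff F hk h⟩ := fun c h => dif_pos h
  have hf : ∀ c ∈ allL, ∀ d ∈ allL, f (mulC true false c d) = f c * f d := fun c hc d hd => by
    rw [hfe _ (mulC_mem hc hd), hfe c hc, hfe d hd, ← map_mul]
    exact congrArg ψ (Subtype.ext (P_mul F hc hd))
  have hf0 : f 0 = 1 := by
    rw [hfe 0 zero_mem_allL, show (⟨P 0, _⟩ : aff k) = 1 from Subtype.ext P_zero, map_one]
  have hφ : ∀ c ∈ allL, ∀ d ∈ allL, φ (mulC true false c d) = φ c * φ d :=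
    fun c hc d hd => (F.mul c hc d hd).symm
  -- each image is a code in the same coset
  have himg : ∀ t ∈ allL, ∀ g ∈ allL, t ∈ (eL k).map (mulC true false g) →
      ∃ p ∈ (eL k).map (mulC true false g), p ∈ allL ∧ φ p = f t := by
    intro t ht g hg htg
    obtain ⟨e, he, rfl⟩ := List.mem_map.1 htg
    have heA := eL_all hk he
    have hd := match_unique F hk T (match_code F hk ht)
      (show Match φ k (P (mulC true false g e)) (f (mulC true false g e)) by
        rw [hfe _ ht]; exact hM ⟨_, P_mem_aff F hk ht⟩)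
    obtain ⟨d, hd, ed⟩ := (T.mem_D _).1 hd
    have hdA := eL_all hk hd
    refine ⟨mulC true false g (mulC true false e d), List.mem_map_of_mem (eL_mul k hk e he d hd).1,
      mulC_mem hg (mulC_mem heA hdA), ?_⟩
    rw [← mulC_assoc F hg heA hdA, hφ _ ht d hdA, ed, mul_inv_cancel_left]
  obtain ⟨⟨hg1, hg2, hg3⟩, -, -, -⟩ := gS_spec
  obtain ⟨p, hpl, hp, ep⟩ := himg t1 ht1 gS.1 hg1 hg.1
  obtain ⟨q, hql, hq, eq⟩ := himg t2 ht2 gS.2.1 hg2 hg.2.1
  obtain ⟨r, hrl, hr', er⟩ := himg t3 ht3 gS.2.2 hg3 hg.2.2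
  have back : ∀ {c}, c ∈ allL → φ c = 1 → c = 0 := fun hc h =>
    F.inj _ hc 0 zero_mem_allL (h.trans F.map_zero.symm)
  have hsq : ∀ {c t}, c ∈ allL → t ∈ allL → φ c = f t → mulC true false t t = 0 →
      mulC true false c c = 0 := fun hc ht e h =>
    back (mulC_mem hc hc) (by rw [hφ _ hc _ hc, e, ← hf _ ht _ ht, h, hf0])
  obtain ⟨a1, -, m1, -⟩ := eval_rel3 F φ hφ hp hq
  obtain ⟨b1, -, -, -⟩ := eval_rel3 F f hf ht1 ht2
  obtain ⟨a2, -, m2, -⟩ := eval_rel3 F φ hφ hq hr'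
  obtain ⟨b2, -, -, -⟩ := eval_rel3 F f hf ht2 ht3
  obtain ⟨-, a3, -, m3⟩ := eval_rel3 F φ hφ hp hr'
  obtain ⟨-, b3, -, -⟩ := eval_rel3 F f hf ht1 ht3
  have h3 : rel3 p q = 0 := back m1 (by rw [a1, ep, eq, ← b1, hr3, hf0])
  have h3' : rel3 q r = 0 := back m2 (by rw [a2, eq, er, ← b2, hr3', hf0])
  have h2 : rel2 p r = 0 := back m3 (by rw [a3, ep, er, ← b3, hr2, hf0])
  have hbK' : ¬ IsConj s (f b) := by rw [hfe b hb]; exact hbK _
  have hnK : ∀ {c t}, c ∈ allL → φ c = f t → (∃ l ∈ allL, conjC true false l b = t) →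
      c ∉ kL := by
    rintro c t hc e ⟨l, hl, rfl⟩ hcK
    refine hbK' (((hK c hc).2 hcK).trans (IsConj.symm (isConj_iff.2 ⟨f l, ?_⟩)))
    obtain ⟨hi, hinv⟩ := invC_spec true false l hl
    have hiA := mem_allL.2 hi
    rw [e, conjC, hf _ (mulC_mem hl hb) _ hiA, hf l hl b hb]
    congr 1
    exact inv_eq_of_mul_eq_one_right (by rw [← hf l hl _ hiA, hinv, hf0])
  have hpr : mulC true false p r ∉ kL := fun hprK => by
    obtain ⟨hwok, hwn, hwe⟩ := hw
    have hwA : toP w ∈ aff k := (nrm_iff (pE_ok hk) hwok).1 hwn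
    have h13 := mulC_mem ht1 ht3
    have e : toP w * P (mulC true false t1 t3) = P b * toP w :=
      (mulP_iff hwok (rho_ok _ h13) (rho_ok b hb) hwok).1 hwe
    refine hbK' (((hK _ (mulC_mem hp hr')).2 hprK).trans
      (isConj_iff.2 ⟨ψ ⟨toP w, hwA⟩, ?_⟩))
    rw [hφ p hp r hr', ep, er, ← hf t1 ht1 t3 ht3, hfe _ h13, hfe b hb, mul_inv_eq_iff_eq_mul,
      ← map_mul, ← map_mul]
    exact congrArg ψ (Subtype.ext e)
  obtain ⟨l, hl, e1, e2, e3⟩ := lifts_conj k hk p hpl q hql r hrl (hsq hp ht1 ep hr.1)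
    (hsq hq ht2 eq hr.2.1) (hsq hr' ht3 er hr.2.2) h3 h3' h2 (hnK hp ep hc.1) (hnK hq eq hc.2.1)
    (hnK hr' er hc.2.2) hpr
  have hlN : (φ l)⁻¹ ∈ Subgroup.normalizer (D : Set G) := inv_mem (L_le F hk T (F.mem l hl))
  have hm : ∀ {g c t}, g ∈ allL → t ∈ [t1, t2, t3] → t ∈ allL → φ c = f t →
      conjC true false l g = c → φ g ∈ H.map (MulAut.conj (φ l)⁻¹).toMonoidHom := by
    intro g c t hg ht htA e hcg
    refine ⟨f t, hfe t htA ▸ hmem t ht (P_mem_aff F hk htA), ?_⟩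
    show (φ l)⁻¹ * f t * (φ l)⁻¹⁻¹ = φ g
    rw [← e, ← hcg, ← F.map_conj hl hg]
    group
  exact ⟨_, compl_conj hH hlN, hm hg1 (by simp) ht1 ep e1, hm hg2 (by simp) ht2 eq e2,
    hm hg3 (by simp) ht3 er e3⟩

/-- A complement through the point stabilizer. -/
theorem exists_good [Finite G] (F : Frame s Q true false φ) (hk : k ∈ [1, 2])
    (T : Trans s φ k D) (hK : ∀ c ∈ allL, IsConj s (φ c) ↔ c ∈ kL) :
    ∃ H', Compl D H' ∧ φ gS.1 ∈ H' ∧ φ gS.2.1 ∈ H' ∧ φ gS.2.2 ∈ H' := by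
  obtain ⟨H, hH⟩ := exists_compl F hk T
  obtain ⟨ψ, hinj, hM, hS, hD, hN⟩ := exists_hom F hk T hH
  have h1A : (1 : ℕ) ∈ allL := mem_allL.2 (by omega)
  have h97A : (97 : ℕ) ∈ allL := mem_allL.2 (by omega)
  obtain ⟨hc1, hc97, hgt⟩ := base_conj k hk
  have hn1 : ¬ IsConj s (φ 1) := fun h => by
    have h' := (hK 1 h1A).1 h
    simp [kL] at h'
  by_cases hA : IsConj s (ψ ⟨P 1, P_mem_aff F hk h1A⟩)
  · -- the other class
    have hB : ¬ IsConj s (ψ ⟨P 97, P_mem_aff F hk h97A⟩) := by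
      intro hB
      have hd := match_unique F hk T (match_code F hk h1A) (hM ⟨P 1, P_mem_aff F hk h1A⟩)
      obtain ⟨e, he, ee⟩ := (T.mem_D _).1 hd
      have heA := eL_all hk he
      have hxA := mulC_mem h1A heA
      have h11 : mulC true false 1 1 = 0 := by decide +kernel
      have hx : ψ ⟨P (mulC true false 1 e), P_mem_aff F hk hxA⟩ = φ 1 := by
        rw [show (⟨P (mulC true false 1 e), P_mem_aff F hk hxA⟩ : aff k) =
          ⟨P 1, P_mem_aff F hk h1A⟩ * ⟨P e, P_mem_aff F hk heA⟩ from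
            Subtype.ext (P_mul F h1A heA), map_mul, hD e he,
          show ψ ⟨P 1, P_mem_aff F hk h1A⟩ = φ 1 * φ e by rw [ee, mul_inv_cancel_left],
          mul_assoc, (eL_comm F hk he he).2.2, mul_one]
      have hsq : mulC true false (mulC true false 1 e) (mulC true false 1 e) = 0 := by
        refine P_inj (mulC_mem hxA hxA) zero_mem_allL ?_
        have h : (⟨P (mulC true false 1 e), P_mem_aff F hk hxA⟩ : aff k) *
            ⟨P (mulC true false 1 e), P_mem_aff F hk hxA⟩ = 1 := hinj (by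
          rw [map_mul, hx, map_one, F.mul 1 h1A 1 h1A, h11, F.map_zero])
        rw [P_mul F hxA hxA, P_zero]
        exact congrArg Subtype.val h
      obtain ⟨l, hl, hlc⟩ := lift_one k hk e he hsq
      have hmv : ∀ {c : ℕ} (hcA : c ∈ allL), conjC true false l c = mulC true false 1 e →
          IsConj (ψ ⟨P c, P_mem_aff F hk hcA⟩) (φ 1) := fun {c} hcA hcc => by
        rw [← hx]
        refine ψ.map_isConj (isConj_iff.2 ⟨⟨P l, P_mem_aff F hk hl⟩, Subtype.ext ?_⟩)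
        obtain ⟨hi, hinv⟩ := invC_spec true false l hl
        show P l * P c * (P l)⁻¹ = P (mulC true false 1 e)
        rw [← hcc, conjC, P_mul F (mulC_mem hl hcA) (mem_allL.2 hi), P_mul F hl hcA]
        congr 1
        exact inv_eq_of_mul_eq_one_right
          (by rw [← P_mul F hl (mem_allL.2 hi), hinv, P_zero])
      rcases hlc with h | h
      · exact hn1 (hA.trans (hmv h1A h))
      · exact hn1 (hB.trans (hmv h97A h))
    obtain ⟨hsqs, h3, h3', h2, ⟨ht1, ht2, ht3⟩, hn⟩ := tS_spec k hk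
    refine good_of_triple F hk T hK ψ hM (compl_twist F hk T ψ hinj hD hN) h97A ht1 ht2 ht3
      hsqs h3 h3' h2 hc97 hgt (wit_spec k hk true) (fun t ht htm => ?_) (fun _ => hB)
    have hin : ∀ t ∈ allL, nrm (pT k) (rho t) = true → P t ∈ normP (pT k) := fun t ht h =>
      (nrm_iff (pT_ok k hk) (rho_ok t ht)).1 h
    refine ⟨⟨P t, htm⟩, ?_, rfl⟩
    refine Subgroup.mem_subgroupOf.2 ?_
    simp only [List.mem_cons, List.not_mem_nil, or_false] at ht
    rcases ht with rfl | rfl | rfl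
    · exact hin _ ht1 hn.1
    · exact hin _ ht2 hn.2.1
    · exact hin _ ht3 hn.2.2
  · obtain ⟨⟨hg1, hg2, hg3⟩, hpt, hsq, h3, h3', h2⟩ := gS_spec
    have hself : ∀ {g}, g ∈ allL → g ∈ (eL k).map (mulC true false g) := fun {g} hg =>
      List.mem_map.2 ⟨0, zero_eL hk, F.inj _ (mulC_mem hg zero_mem_allL) _ hg
        (by rw [← F.mul g hg 0 zero_mem_allL, F.map_zero, mul_one])⟩
    refine good_of_triple F hk T hK ψ hM hH h1A hg1 hg2 hg3 hsq h3 h3' h2 hc1
      ⟨hself hg1, hself hg2, hself hg3⟩ (wit_spec k hk false) (fun t ht htm => hS _ ?_)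
      (fun _ => hA)
    show ((P t) 0 : ℕ) = 0
    simp only [List.mem_cons, List.not_mem_nil, or_false] at ht
    rcases ht with rfl | rfl | rfl
    · rw [P_pt hg1, hpt.1]
    · rw [P_pt hg2, hpt.2.1]
    · rw [P_pt hg3, hpt.2.2]

/-- The isomorphism with the affine group extending the table. -/
theorem exists_ext [Finite G] (F : Frame s Q true false φ) (hk : k ∈ [1, 2])
    (T : Trans s φ k D) (hK : ∀ c ∈ allL, IsConj s (φ c) ↔ c ∈ kL) :
    ∃ ψ : aff k →* G, Function.Injective ψ ∧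
      ∀ c ∈ allL, ∀ h : P c ∈ aff k, ψ ⟨P c, h⟩ = φ c := by
  obtain ⟨H, hH, m1, m2, m3⟩ := exists_good F hk T hK
  obtain ⟨ψ, hinj, hM, hS, hD, -⟩ := exists_hom F hk T hH
  refine ⟨ψ, hinj, ?_⟩
  let W : ℕ → Prop := fun c => ∃ hc : c ∈ allL, ψ ⟨P c, P_mem_aff F hk hc⟩ = φ c
  have hmul : ∀ a b, W a → W b → W (mulC true false a b) := by
    rintro a b ⟨ha, ea⟩ ⟨hb, eb⟩
    refine ⟨mulC_mem ha hb, ?_⟩
    rw [← F.mul a ha b hb, ← ea, ← eb, ← map_mul]
    exact congrArg ψ (Subtype.ext (P_mul F ha hb))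
  have hE : ∀ e ∈ eL k, W e := fun e he => ⟨eL_all hk he, hD e he _⟩
  obtain ⟨⟨hg1, hg2, hg3⟩, hpt, -, -⟩ := gS_spec
  have hgW : ∀ {g}, g ∈ allL → pt g = 0 → φ g ∈ H → W g := by
    intro g hg h0 hgH
    refine ⟨hg, ?_⟩
    have hmem : ψ ⟨P g, P_mem_aff F hk hg⟩ ∈ H := hS _ (by show ((P g) 0 : ℕ) = 0; rw [P_pt hg, h0])
    exact inv_mul_eq_one.1 (hH.disj _ (mul_mem (inv_mem hmem) hgH)
      (match_unique F hk T (hM _) (match_code F hk hg)))
  have hw : ∀ n, ∀ d ∈ wL n, W d := by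
    intro n
    induction n with
    | zero =>
      intro d hd
      simp only [wL, List.mem_cons, List.not_mem_nil, or_false] at hd
      exact hd ▸ hE 0 (zero_eL hk)
    | succ n ih =>
      intro d hd
      simp only [wL, List.mem_dedup, List.mem_append, List.mem_flatMap, List.mem_map,
        List.mem_cons, List.not_mem_nil, or_false] at hd
      rcases hd with hd | ⟨c, hc, g, hg, rfl⟩
      · exact ih d hd
      · refine hmul c g (ih c hc) ?_
        rcases hg with rfl | rfl | rfl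
        · exact hgW hg1 hpt.1 m1
        · exact hgW hg2 hpt.2.1 m2
        · exact hgW hg3 hpt.2.2 m3
  intro c hc h
  obtain ⟨e, he, d, hd, rfl⟩ := H0_gen k hk c hc
  obtain ⟨_, e'⟩ := hmul e d (hE e he) (hw 6 d hd)
  exact e'

end H55.SThree.Alt
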