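import Cfsg.Agent.H55.SThree.Alt.Amalgam

/-! Coset data for the two affine groups. -/

set_option autoImplicit false

namespace H55.SThree.Alt

/-- The codes moved into the table by the second involution. -/
def jL : List ℕ :=
  [0, 3, 6, 9, 36, 39, 42, 45, 48, 51, 54, 57, 84, 87, 90, 93, 96, 99, 102, 105, 132, 135, 138,
    141, 144, 147, 150, 153, 180, 183, 186, 189]

/-- The part of the first affine group known to be moved into itself. -/
def sL : List ℕ :=
  jL.map rho ++ jL.map (fun c => mulP (rho c) aA) ++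
    jL.map (fun c => mulP (mulP (rho c) aA) (rho 6))

/-- The representatives: a code of the table and a code from `sL`. -/
def repL : List (ℕ × ℕ) :=
  [(0, 16434824), (1, 16434824), (4, 16434824), (12, 16434824), (13, 16434824), (16, 16434824),
    (1, 4078256), (1, 4106480), (1, 4020016), (1, 4048240), (1, 12966072), (1, 12929784),
    (1, 13022520), (1, 12986232)]

/-- The inverses of the representatives. -/
def rinvL : List ℕ :=
  [16434824, 11789960, 7072520, 4988844, 4987710, 9705150, 7805112, 11474232, 9115512, 5446392,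
    9239216, 7402864, 11073776, 5568304]

/-- The permutation of a representative. -/
def repP (r : ℕ × ℕ) : ℕ := mulP (rho r.1) r.2

theorem jL_move : ∀ c ∈ jL, c ∈ allL ∧
    ∃ c1 ∈ allL, mulP bB (rho c) = mulP (rho c1) bB := by decide +kernel

theorem repL_spec : ∀ r ∈ repL, r.1 ∈ allL ∧ r.2 ∈ sL := by decide +kernel

theorem rinv_spec : ∀ p ∈ repL.zip rinvL, okP p.2 = true ∧ mulP p.2 (repP p.1) = idP := by
  decide +kernel

theorem idP_sL : idP ∈ sL ∧ (0, idP) ∈ repL := by decide +kernel

theorem cover_stab : ∀ t ∈ validL 1, ∃ p ∈ repL.zip rinvL, mulP (hP 1 t) p.2 ∈ sL := by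
  decide +kernel

theorem cover_move : ∀ r ∈ repL, ∀ e ∈ eL 1, ∃ p ∈ repL.zip rinvL,
    mulP (mulP (repP r) (rho e)) p.2 ∈ sL := by decide +kernel

theorem table_move : ∀ p ∈ [(0, 0, 0), (1, 8, 125), (4, 8, 107), (12, 12, 162), (13, 7, 158),
    (16, 7, 92)], p.2.1 ∈ allL ∧ p.2.2 ∈ allL ∧
    (mulP (mulP bB (rho p.1)) bB = rho p.2.1 ∨
      mulP (mulP bB (rho p.1)) bB = mulP (mulP (rho p.2.1) bB) (rho p.2.2)) := by decide +kernel

theorem repL_fst : ∀ r ∈ repL, r.1 ∈ [0, 1, 4, 12, 13, 16] := by decide +kernel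

theorem rep_apart : ∀ p ∈ repL.zip rinvL, ∀ q ∈ repL.zip rinvL,
    nrm (pE 1) (mulP (mulP bB (mulP (repP p.1) q.2)) bB) = true → p = q := by decide +kernel

theorem rep_zip : repL.length = 14 ∧ repL.Nodup ∧ ∀ r ∈ repL, ∃ v ∈ rinvL, (r, v) ∈ repL.zip rinvL := by
  decide +kernel

theorem bB_not : nrm (pE 1) bB = false := by decide +kernel

end H55.SThree.Alt
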