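import Cfsg.Agent.H55.SThree.Alt.Rho
import Cfsg.Agent.H55.SThree.Alt.Facts
import Cfsg.Agent.H55.SThree.Fusion
import Mathlib.GroupTheory.Index
import Mathlib.Data.Fintype.List

/-!
Elements of `G` and permutations acting alike on a fused invariant subgroup; complements of that
subgroup in its normalizer.
-/

set_option autoImplicit false

namespace H55.SThree.Alt

variable {G : Type*} [Group G]

/-- A fused invariant subgroup. -/
structure Trans (s : G) (φ : ℕ → G) (k : ℕ) (D : Subgroup G) : Prop where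
  mem_D : ∀ g, g ∈ D ↔ ∃ c ∈ eL k, φ c = g
  trans : ∀ d ∈ D, d ≠ 1 → ∃ h ∈ Subgroup.normalizer (D : Set G), h * s * h⁻¹ = d

theorem exists_trans {s : G} {φ : ℕ → G} {k : ℕ} (h : Fused s true φ k) :
    ∃ D, Trans s φ k D := by
  obtain ⟨-, -, D, hD, htr⟩ := h
  exact ⟨D, hD, htr⟩

/-- A permutation and a group element act alike. -/
def Match (φ : ℕ → G) (k : ℕ) (m : S8) (g : G) : Prop :=
  ∀ c ∈ eL k, ∃ d ∈ eL k, m * P c = P d * m ∧ g * φ c = φ d * g

/-- A complement. -/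
structure Compl (D H : Subgroup G) : Prop where
  le : H ≤ Subgroup.normalizer (D : Set G)
  disj : ∀ g ∈ H, g ∈ D → g = 1
  card : 168 ≤ Nat.card H

section

variable {s : G} {Q D : Subgroup G} {φ : ℕ → G} {k : ℕ}

theorem match_mul {m m' : S8} {g g' : G} (h : Match φ k m g) (h' : Match φ k m' g') :
    Match φ k (m * m') (g * g') := by
  intro c hc
  obtain ⟨d, hd, e1, e2⟩ := h' c hc
  obtain ⟨d', hd', e3, e4⟩ := h d hd
  exact ⟨d', hd', by rw [mul_assoc, e1, ← mul_assoc, e3, mul_assoc],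
    by rw [mul_assoc, e2, ← mul_assoc, e4, mul_assoc]⟩

theorem match_one : Match φ k 1 1 := fun c hc => ⟨c, hc, by simp, by simp⟩

theorem match_code (F : Frame s Q true false φ) (hk : k ∈ [1, 2]) {c : ℕ} (hc : c ∈ allL) :
    Match φ k (P c) (φ c) := by
  intro d hd
  obtain ⟨h1, h2⟩ := eL_conj k hk c hc d hd
  have hdA := eL_all hk hd
  have h1A := eL_all hk h1
  exact ⟨_, h1, by rw [← P_mul F hc hdA, h2, P_mul F h1A hc],
    by rw [F.mul c hc d hdA, h2, F.mul _ h1A c hc]⟩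

theorem eL_comm (F : Frame s Q true false φ) (hk : k ∈ [1, 2]) {c d : ℕ} (hc : c ∈ eL k)
    (hd : d ∈ eL k) : Commute (φ c) (φ d) ∧ Commute (P c) (P d) ∧ φ c * φ c = 1 := by
  have hcA := eL_all hk hc
  have hdA := eL_all hk hd
  obtain ⟨-, h1, h2⟩ := eL_mul k hk c hc d hd
  exact ⟨by unfold Commute SemiconjBy; rw [F.mul c hcA d hdA, h1, F.mul d hdA c hcA],
    by unfold Commute SemiconjBy; rw [← P_mul F hcA hdA, h1, P_mul F hdA hcA],
    by rw [F.mul c hcA c hcA, h2, F.map_zero]⟩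

/-- Only `D` centralizes `D`. -/
theorem cent_mem (F : Frame s Q true false φ) (hk : k ∈ [1, 2]) (T : Trans s φ k D) {g : G}
    (h : ∀ c ∈ eL k, Commute g (φ c)) : g ∈ D := by
  have hs : g ∈ Subgroup.centralizer ({s} : Set G) :=
    Frame.mem_L_iff.2 (F.map_s ▸ h 96 (eL_base (mem_kS hk)).2)
  obtain ⟨c, hc, rfl⟩ := F.surj g hs
  exact (T.mem_D _).2
    ⟨c, eL_cent k hk c hc fun d hd => (F.commute_iff hc (eL_all hk hd)).1 (h d hd), rfl⟩

theorem P_eq (hk : k ∈ [1, 2]) {c d : ℕ} (hc : c ∈ eL k) (hd : d ∈ eL k) {m : S8}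
    (h : P c * m = P d * m) : c = d :=
  P_inj (eL_all hk hc) (eL_all hk hd) (mul_right_cancel h)

/-- Two elements acting alike differ by an element of `D`. -/
theorem match_unique (F : Frame s Q true false φ) (hk : k ∈ [1, 2]) (T : Trans s φ k D) {m : S8}
    {g g' : G} (h : Match φ k m g) (h' : Match φ k m g') : g⁻¹ * g' ∈ D := by
  refine cent_mem F hk T fun c hc => ?_
  obtain ⟨d, hd, e1, e2⟩ := h c hc
  obtain ⟨d', hd', e1', e2'⟩ := h' c hc
  obtain rfl := P_eq hk hd hd' (e1.symm.trans e1')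
  show _ = _
  have e3 : g⁻¹ * φ d = φ c * g⁻¹ := by
    calc g⁻¹ * φ d = g⁻¹ * (φ d * g) * g⁻¹ := by group
      _ = g⁻¹ * (g * φ c) * g⁻¹ := by rw [e2]
      _ = φ c * g⁻¹ := by group
  rw [mul_assoc, e2', ← mul_assoc, e3, mul_assoc]

theorem exists_image (F : Frame s Q true false φ) (hk : k ∈ [1, 2]) (T : Trans s φ k D) {g : G}
    (hg : g ∈ Subgroup.normalizer (D : Set G)) {c : ℕ} (hc : c ∈ eL k) :
    ∃ d ∈ eL k, g * φ c = φ d * g := by
  have := (Subgroup.mem_normalizer_iff.1 hg (φ c)).1 ((T.mem_D _).2 ⟨c, hc, rfl⟩)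
  obtain ⟨d, hd, e⟩ := (T.mem_D _).1 this
  exact ⟨d, hd, by rw [e, inv_mul_cancel_right]⟩

/-- A relation closed under products, known on the basis, is known everywhere. -/
theorem span_rel (hk : k ∈ [1, 2]) (R : ℕ → ℕ → Prop) (h0 : R 0 0)
    (hm : ∀ c ∈ eL k, ∀ d ∈ eL k, ∀ c' ∈ eL k, ∀ d' ∈ eL k,
      R c d → R c' d' → R (mulC true false c c') (mulC true false d d'))
    {t : ℕ × ℕ × ℕ} (ht : t ∈ validL k) (h1 : R (basis k).1 t.1) (h2 : R (basis k).2.1 t.2.1)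
    (h3 : R (basis k).2.2 t.2.2) :
    (∀ p ∈ (spanL (basis k)).zip (spanL t), p.1 ∈ eL k ∧ p.2 ∈ eL k ∧ R p.1 p.2) ∧
      ∀ c ∈ eL k, ∃ p ∈ (spanL (basis k)).zip (spanL t), p.1 = c := by
  obtain ⟨t1, t2, t3⟩ := validL_mem ht
  obtain ⟨hcov, ⟨b1, b2, b3⟩, -⟩ := basis_span k hk
  have z := zero_eL hk
  have key : ∀ {c d c' d'}, (c ∈ eL k ∧ d ∈ eL k ∧ R c d) → (c' ∈ eL k ∧ d' ∈ eL k ∧ R c' d') →
      mulC true false c c' ∈ eL k ∧ mulC true false d d' ∈ eL k ∧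
        R (mulC true false c c') (mulC true false d d') := fun {c d c' d'} p q =>
    ⟨(eL_mul k hk c p.1 c' q.1).1, (eL_mul k hk d p.2.1 d' q.2.1).1,
      hm c p.1 d p.2.1 c' q.1 d' q.2.1 p.2.2 q.2.2⟩
  refine ⟨fun p hp => ?_, fun c hc => ?_⟩
  · simp only [spanL, List.zip_cons_cons, List.zip_nil_right, List.mem_cons, List.not_mem_nil,
      or_false] at hp
    have p1 := And.intro b1 (And.intro t1 h1)
    have p2 := And.intro b2 (And.intro t2 h2)
    have p3 := And.intro b3 (And.intro t3 h3)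
    rcases hp with rfl | rfl | rfl | rfl | rfl | rfl | rfl | rfl
    · exact ⟨z, z, h0⟩
    · exact p1
    · exact p2
    · exact key p1 p2
    · exact p3
    · exact key p1 p3
    · exact key p2 p3
    · exact key (key p1 p2) p3
  · have := hcov c hc
    simp only [spanL, List.mem_cons, List.not_mem_nil, or_false] at this
    simp only [spanL, List.zip_cons_cons, List.zip_nil_right, List.mem_cons, List.not_mem_nil,
      or_false, exists_eq_or_imp, exists_eq_left]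
    tauto

/-- The images of the basis under an injective action. -/
theorem exists_triple (hk : k ∈ [1, 2]) (R : ℕ → ℕ → Prop) (h0 : R 0 0)
    (hm : ∀ c ∈ eL k, ∀ d ∈ eL k, ∀ c' ∈ eL k, ∀ d' ∈ eL k,
      R c d → R c' d' → R (mulC true false c c') (mulC true false d d'))
    (hinj : ∀ c ∈ eL k, ∀ c' ∈ eL k, ∀ d, R c d → R c' d → c = c')
    (hex : ∀ c ∈ eL k, ∃ d ∈ eL k, R c d) :
    ∃ t ∈ validL k, R (basis k).1 t.1 ∧ R (basis k).2.1 t.2.1 ∧ R (basis k).2.2 t.2.2 := by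
  obtain ⟨-, ⟨b1, b2, b3⟩, -⟩ := basis_span k hk
  obtain ⟨n1, n2, n3, n4, n5, n6, n7⟩ := basis_ne k hk
  obtain ⟨d1, hd1, r1⟩ := hex _ b1
  obtain ⟨d2, hd2, r2⟩ := hex _ b2
  obtain ⟨d3, hd3, r3⟩ := hex _ b3
  have z := zero_eL hk
  refine ⟨(d1, d2, d3), validL_iff hd1 hd2 hd3 ?_ ?_ ?_ ?_ ?_ ?_ ?_, r1, r2, r3⟩
  · rintro rfl; exact n1 (hinj _ b1 _ z _ r1 h0)
  · rintro rfl; exact n2 (hinj _ b2 _ z _ r2 h0)
  · rintro rfl; exact n3 (hinj _ b2 _ b1 _ r2 r1)
  · rintro rfl; exact n4 (hinj _ b3 _ z _ r3 h0)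
  · rintro rfl; exact n5 (hinj _ b3 _ b1 _ r3 r1)
  · rintro rfl; exact n6 (hinj _ b3 _ b2 _ r3 r2)
  · rintro rfl
    exact n7 (hinj _ b3 _ (eL_mul k hk _ b1 _ b2).1 _ r3 (hm _ b1 _ hd1 _ b2 _ hd2 r1 r2))

theorem rel_mul {M : Type*} [Group M] (f : ℕ → M) (hf : ∀ c ∈ eL k, ∀ d ∈ eL k,
    f (mulC true false c d) = f c * f d) {m : M} {c d c' d' : ℕ} (hc : c ∈ eL k) (hd : d ∈ eL k)
    (hc' : c' ∈ eL k) (hd' : d' ∈ eL k) (e : m * f c = f d * m) (e' : m * f c' = f d' * m) :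
    m * f (mulC true false c c') = f (mulC true false d d') * m := by
  rw [hf c hc c' hc', hf d hd d' hd', ← mul_assoc, e, mul_assoc, e', mul_assoc]

/-- A complement induces every possible action. -/
theorem exists_match [Finite G] (F : Frame s Q true false φ) (hk : k ∈ [1, 2])
    (T : Trans s φ k D) {H : Subgroup G} (hH : Compl D H) {m : S8} (hm : m ∈ aff k) :
    ∃ h ∈ H, Match φ k m h := by
  classical
  have hφ : ∀ c ∈ eL k, ∀ d ∈ eL k, φ (mulC true false c d) = φ c * φ d :=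
    fun c hc d hd => (F.mul c (eL_all hk hc) d (eL_all hk hd)).symm
  have hP : ∀ c ∈ eL k, ∀ d ∈ eL k, P (mulC true false c d) = P c * P d :=
    fun c hc d hd => P_mul F (eL_all hk hc) (eL_all hk hd)
  have key : ∀ g : H, ∃ t ∈ validL k,
      ((g : G) * φ (basis k).1 = φ t.1 * g) ∧ ((g : G) * φ (basis k).2.1 = φ t.2.1 * g) ∧
        ((g : G) * φ (basis k).2.2 = φ t.2.2 * g) := by
    intro g
    refine exists_triple hk (fun c d => (g : G) * φ c = φ d * g) (by simp [F.map_zero])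
      (fun c hc d hd c' hc' d' hd' => rel_mul φ hφ hc hd hc' hd') ?_
      (fun c hc => exists_image F hk T (hH.le g.2) hc)
    intro c hc c' hc' d e e'
    exact F.inj c (eL_all hk hc) c' (eL_all hk hc') (mul_left_cancel (e.trans e'.symm))
  choose t ht e1 e2 e3 using key
  let f : H → (validL k).toFinset := fun g => ⟨t g, List.mem_toFinset.2 (ht g)⟩
  have hf : Function.Injective f := by
    intro g g' e
    have et : t g = t g' := congrArg Subtype.val e
    obtain ⟨hall, hcov⟩ := span_rel hk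
      (fun c d => (g : G) * φ c = φ d * g ∧ (g' : G) * φ c = φ d * g') ⟨by simp [F.map_zero], by simp [F.map_zero]⟩
      (fun c hc d hd c' hc' d' hd' p q =>
        ⟨rel_mul φ hφ hc hd hc' hd' p.1 q.1, rel_mul φ hφ hc hd hc' hd' p.2 q.2⟩)
      (ht g) ⟨e1 g, et ▸ e1 g'⟩ ⟨e2 g, et ▸ e2 g'⟩ ⟨e3 g, et ▸ e3 g'⟩
    have hD : (g : G)⁻¹ * g' ∈ D := by
      refine cent_mem F hk T fun c hc => ?_
      obtain ⟨p, hp, rfl⟩ := hcov c hc
      obtain ⟨-, -, a, b⟩ := hall p hp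
      show _ = _
      calc (g : G)⁻¹ * g' * φ p.1 = (g : G)⁻¹ * (φ p.2 * g) * ((g : G)⁻¹ * g') := by
            rw [mul_assoc, b]; group
        _ = (g : G)⁻¹ * (g * φ p.1) * ((g : G)⁻¹ * g') := by rw [a]
        _ = φ p.1 * ((g : G)⁻¹ * g') := by group
    exact Subtype.ext (inv_mul_eq_one.1 (hH.disj _ (mul_mem (inv_mem g.2) g'.2) hD))
  have hcard : Nat.card (validL k).toFinset = 168 := by
    rw [Nat.card_eq_fintype_card, Fintype.card_coe,
      List.toFinset_card_of_nodup (validL_card k hk).2, (validL_card k hk).1]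
  have hbij : Function.Bijective f :=
    (Nat.bijective_iff_injective_and_card f).2 ⟨hf, le_antisymm
      (Nat.card_le_card_of_injective f hf) (hcard ▸ hH.card)⟩
  obtain ⟨u, hu, r1, r2, r3⟩ := exists_triple hk (fun c d => m * P c = P d * m)
    (by simp [P_zero]) (fun c hc d hd c' hc' d' hd' => rel_mul P hP hc hd hc' hd')
    (fun c hc c' hc' d e e' => P_inj (eL_all hk hc) (eL_all hk hc')
      (mul_left_cancel (e.trans e'.symm)))
    (fun c hc => (mem_aff hk).1 hm c hc)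
  obtain ⟨g, hg⟩ := hbij.2 ⟨u, List.mem_toFinset.2 hu⟩
  have et : t g = u := congrArg Subtype.val hg
  obtain ⟨hall, hcov⟩ := span_rel hk
    (fun c d => m * P c = P d * m ∧ (g : G) * φ c = φ d * g)
    ⟨by simp [P_zero], by simp [F.map_zero]⟩
    (fun c hc d hd c' hc' d' hd' p q =>
      ⟨rel_mul P hP hc hd hc' hd' p.1 q.1, rel_mul φ hφ hc hd hc' hd' p.2 q.2⟩)
    hu ⟨r1, et ▸ e1 g⟩ ⟨r2, et ▸ e2 g⟩ ⟨r3, et ▸ e3 g⟩
  refine ⟨g, g.2, fun c hc => ?_⟩
  obtain ⟨p, hp, rfl⟩ := hcov c hc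
  obtain ⟨-, h2, h3⟩ := hall p hp
  exact ⟨p.2, h2, h3⟩

end

end H55.SThree.Alt
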