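import Cfsg.Agent.H55.SThree.Alt.Perm
import Cfsg.Agent.H55.SThree.ModelDef
import Cfsg.Agent.H55.SThree.TwoDef

/-!
The exchanging table inside the alternating group of degree eight, as the centralizer of
`(01)(23)(45)(67)`, and the two affine groups above it.
-/

set_option autoImplicit false
set_option maxRecDepth 10000

namespace H55.SThree.Alt

/-- The permutation of each code. -/
def rhoL : List ℕ :=
  [16434824, 11789960, 7072520, 16362248, 11644808, 6999944, 9953811, 16405011, 2252691, 9736083, 16288083, 2353491, 6852069, 2207205, 14524965, 7041573, 2324133, 14452389, 2177847, 5016375, 11568375, 2278647, 5161527, 11612727, 9953370, 16404570, 417690, 9707418, 16259418, 518490, 14571144, 9926280, 7043400, 14526792, 9809352, 6970824, 371511, 6822711, 11540151, 444087, 6996087, 11640951, 6852524, 2207660, 16359980, 7070252, 2352812, 16287404, 6823404, 372204, 14524524, 7041132, 489132, 14423724, 2206526, 6851390, 11568830, 2279102, 6996542, 11641406, 14599368, 11760840, 5208840, 14498568, 11615688,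 5164488, 11788371, 16433235, 446355, 11542419, 16259859, 518931, 342846, 4987710, 11539710, 443646, 5161086, 11612286, 6823845, 372645, 16359525, 7069797, 517797, 16258725, 11788826, 16433690, 2281370, 11571098, 16288538, 2353946, 16405704, 9954504, 5237064, 16333128, 9781128, 5136264, 14570689, 9925825, 5208385, 14498113, 9780673, 5135809, 11759706, 14598234, 445914, 11541978, 14424858, 490266, 4988844, 343980, 16330860, 5234796, 517356, 16258284, 371070, 6822270, 9705150, 415422, 6967422, 9805950, 11760147, 14598675, 2280915, 11570643, 14453523, 2325267, 16434369, 11789505, 5237505, 16333569, 11616129, 5164929, 2177406, 5015934, 9733374, 2249982, 5132862, 9777726, 4988389, 343525, 14495845, 5206117, 488677, 14423269, 5017509, 2178981, 16331301, 5235237, 2352357, 16286949, 342391, 4987255, 9704695, 414967, 5132407, 9777271, 16406145, 9954945, 7072065, 16361793, 9809793, 6971265, 9925146, 14570010, 2252250, 9735642, 14453082, 2324826, 2206071, 6850935, 9733815, 2250423, 6967863, 9806391, 5017068, 2178540,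 14496300, 5206572, 2323692, 14451948, 9924691, 14569555, 417235, 9706963, 14424403, 489811, 14599809, 11761281, 7043841, 14527233, 11644353, 6999489]

/-- The permutation of a code. -/
def rho (c : ℕ) : ℕ := rhoL.getD c 0

/-- The translations of the two affine structures. -/
def pE (k : ℕ) : List ℕ := (eL k).map rho

/-- A basis of the translations. -/
def basis (k : ℕ) : ℕ × ℕ × ℕ := if k = 1 then (96, 36, 66) else (96, 42, 54)

/-- The translations of the other structure, used for the second class of complements. -/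
def pT (k : ℕ) : List ℕ :=
  if k = 1 then [571823, 3171581, 4346846, 7802452, 8745331, 11513089, 14522914, 16434824]
  else [1107183, 2636221, 4608499, 7806498, 8483678, 11513089, 14518868, 16434824]

/-- Generators of the point stabilizer. -/
def gS : ℕ × ℕ × ℕ := (1, 3, 31)

/-- Their translates in the second class of complements. -/
def tS (k : ℕ) : ℕ × ℕ × ℕ := if k = 1 then (163, 135, 127) else (181, 153, 127)

/-- The elements generated by a triple. -/
def spanL (t : ℕ × ℕ × ℕ) : List ℕ :=
  let m := mulC true false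
  [0, t.1, t.2.1, m t.1 t.2.1, t.2.2, m t.1 t.2.2, m t.2.1 t.2.2, m (m t.1 t.2.1) t.2.2]

/-- The possible images of the basis. -/
def validL (k : ℕ) : List (ℕ × ℕ × ℕ) :=
  (eL k).flatMap fun a => (eL k).flatMap fun b => ((eL k).filter fun c =>
    a != 0 && b != 0 && b != a && c != 0 && c != a && c != b && c != mulC true false a b).map
      fun c => (a, b, c)

/-- The point moved to by a code. -/
def pt (c : ℕ) : ℕ := dig (rho c) 0

/-- The permutation fixing a point with given images of the basis. -/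
def hP (k : ℕ) (t : ℕ × ℕ × ℕ) : ℕ :=
  (((spanL (basis k)).zip (spanL t)).map fun p => pt p.2 * 8 ^ pt p.1).sum

/-- The second class of complements, by enumeration. -/
def tL (k : ℕ) : List ℕ :=
  (((validL k).map (hP k)).flatMap fun h => (eL k).map fun r => mulP (rho r) h).filter (nrm (pT k))

theorem rho_ok : ∀ c ∈ allL, okP (rho c) = true := by decide +kernel

theorem rho_nodup : (allL.map fun c => mulP (rho c) idP).Nodup := by decide +kernel

theorem rho_gen : ∀ g ∈ [96, 24, 48, 72, 6, 12, 18, 2, 4, 1], g ∈ allL ∧ ∀ c ∈ allL,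
    rho (mulC true false c g) = mulP (rho c) (rho g) := by decide +kernel

theorem rho_zero : rho 0 = idP ∧ pt 0 = 0 := by decide

theorem enc_split : ∀ c ∈ allL,
    mulC true false (mulC true false (mulC true false (mulC true false (enc (cZ c) 0 0 0 0)
      (enc 0 (cU c) 0 0 0)) (enc 0 0 (cV c) 0 0)) (enc 0 0 0 (cN c) 0)) (enc 0 0 0 0 (cB c)) = c := by
  decide +kernel

theorem enc_gens : ∀ z ∈ List.range 2, ∀ u ∈ List.range 4, ∀ v ∈ List.range 4, ∀ n ∈ List.range 3,
    ∀ b ∈ List.range 2,
    (∀ g ∈ [enc z 0 0 0 0, enc 0 u 0 0 0, enc 0 0 v 0 0, enc 0 0 0 n 0, enc 0 0 0 0 b],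
      g = 0 ∨ g ∈ [96, 24, 48, 72, 6, 12, 18, 2, 4, 1]) := by decide +kernel

theorem eL_mul : ∀ k ∈ [1, 2], ∀ c ∈ eL k, ∀ d ∈ eL k,
    mulC true false c d ∈ eL k ∧ mulC true false c d = mulC true false d c ∧
    mulC true false c c = 0 := by decide +kernel

theorem eL_conj : ∀ k ∈ [1, 2], ∀ c ∈ allL, ∀ d ∈ eL k, conjC true false c d ∈ eL k ∧
    mulC true false c d = mulC true false (conjC true false c d) c := by decide +kernel

theorem eL_cent : ∀ k ∈ [1, 2], ∀ c ∈ allL,
    (∀ d ∈ eL k, isC true false c d = true) → c ∈ eL k := by decide +kernel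

theorem eL_regular : ∀ k ∈ [1, 2], ∀ i < 8, ∃ c ∈ eL k, pt c = i ∧
    ∀ d ∈ eL k, pt d = i → d = c := by decide +kernel

theorem basis_span : ∀ k ∈ [1, 2], (∀ c ∈ eL k, c ∈ spanL (basis k)) ∧
    ((basis k).1 ∈ eL k ∧ (basis k).2.1 ∈ eL k ∧ (basis k).2.2 ∈ eL k) ∧
    basis k ∈ validL k := by decide +kernel

theorem validL_card : ∀ k ∈ [1, 2], (validL k).length = 168 ∧ (validL k).Nodup := by decide +kernel

theorem validL_iff {k a b c : ℕ} (ha : a ∈ eL k) (hb : b ∈ eL k) (hc : c ∈ eL k) (h1 : a ≠ 0)
    (h2 : b ≠ 0) (h3 : b ≠ a) (h4 : c ≠ 0) (h5 : c ≠ a) (h6 : c ≠ b)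
    (h7 : c ≠ mulC true false a b) : (a, b, c) ∈ validL k := by
  simp [validL, List.mem_flatMap, ha, hb, hc, h1, h2, h3, h4, h5, h6, h7]

theorem validL_mem {k : ℕ} {t : ℕ × ℕ × ℕ} (h : t ∈ validL k) :
    t.1 ∈ eL k ∧ t.2.1 ∈ eL k ∧ t.2.2 ∈ eL k := by
  obtain ⟨a, b, c⟩ := t
  simp only [validL, List.mem_flatMap, List.mem_map, List.mem_filter, Prod.mk.injEq] at h
  obtain ⟨a', ha, b', hb, c', ⟨hc, -⟩, rfl, rfl, rfl⟩ := h
  exact ⟨ha, hb, hc⟩

theorem basis_indep : ∀ k ∈ [1, 2],
    (spanL (basis k)).Nodup ∧ ∀ c ∈ spanL (basis k), c ∈ eL k := by decide +kernel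

theorem hP_spec : ∀ k ∈ [1, 2], ∀ t ∈ validL k, okP (hP k t) = true ∧ nrm (pE k) (hP k t) = true ∧
    dig (hP k t) 0 = 0 ∧
    ∀ p ∈ (spanL (basis k)).zip (spanL t), dig (hP k t) (pt p.1) = pt p.2 := by decide +kernel

theorem pT_ok : ∀ k ∈ [1, 2], ∀ x ∈ pT k, okP x = true := by decide +kernel

theorem pT_disjoint : ∀ k ∈ [1, 2], ∀ r ∈ eL k, nrm (pT k) (rho r) = true → r = 0 := by
  decide +kernel

theorem tL_card : ∀ k ∈ [1, 2], 168 ≤ (tL k).length ∧ (tL k).Nodup := by decide +kernel

end H55.SThree.Alt
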