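import Mathlib.GroupTheory.Perm.Basic
import Mathlib.GroupTheory.OrderOfElement
import Mathlib.Data.Fintype.EquivFin
import Mathlib.Tactic.IntervalCases
import Mathlib.Data.Fintype.Perm
import Mathlib.Data.List.Range

/-! Permutations of eight points in base eight. -/

set_option autoImplicit false

namespace H55.SThree.Alt

/-- Abbreviation for the symmetric group on eight points. -/
abbrev S8 := Equiv.Perm (Fin 8)

/-- The `i`-th digit. -/
def dig (a i : ℕ) : ℕ := a / 8 ^ i % 8

/-- A number from its digits. -/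
def pack (f : ℕ → ℕ) : ℕ :=
  f 0 + 8 * (f 1 + 8 * (f 2 + 8 * (f 3 + 8 * (f 4 + 8 * (f 5 + 8 * (f 6 + 8 * f 7))))))

/-- The product of two permutation codes. -/
def mulP (a b : ℕ) : ℕ := pack fun i => dig a (dig b i)

/-- The code of the identity. -/
def idP : ℕ := 16434824

/-- The codes with distinct digits. -/
def okP (a : ℕ) : Bool :=
  (List.range 8).all fun i => (List.range 8).all fun j => i == j || dig a i != dig a j

theorem dig_lt (a i : ℕ) : dig a i < 8 := Nat.mod_lt _ (by omega)

theorem dig_pack (f : ℕ → ℕ) (hf : ∀ i, f i < 8) {i : ℕ} (hi : i < 8) : dig (pack f) i = f i := by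
  have := hf 0; have := hf 1; have := hf 2; have := hf 3
  have := hf 4; have := hf 5; have := hf 6; have := hf 7
  unfold dig pack
  interval_cases i <;> omega

theorem dig_mulP (a b : ℕ) {i : ℕ} (hi : i < 8) : dig (mulP a b) i = dig a (dig b i) :=
  dig_pack _ (fun _ => dig_lt _ _) hi

/-- The function of a code. -/
def funP (a : ℕ) (i : Fin 8) : Fin 8 := ⟨dig a i, dig_lt a i⟩

/-- The permutation of a code. -/
noncomputable def toP (a : ℕ) : S8 :=
  if h : Function.Injective (funP a) then Equiv.ofBijective _ (Finite.injective_iff_bijective.1 h)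
  else 1

theorem ok_inj {a : ℕ} (h : okP a = true) : Function.Injective (funP a) := by
  intro i j hij
  simp only [okP, List.all_eq_true, List.mem_range, Bool.or_eq_true, beq_iff_eq, bne_iff_ne] at h
  rcases h i i.2 j j.2 with h' | h'
  · exact Fin.ext h'
  · exact absurd (congrArg Fin.val hij) h'

theorem toP_apply {a : ℕ} (h : okP a = true) (i : Fin 8) : ((toP a) i : ℕ) = dig a i := by
  rw [toP, dif_pos (ok_inj h)]; rfl

theorem okP_mul {a b : ℕ} (ha : okP a = true) (hb : okP b = true) : okP (mulP a b) = true := by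
  simp only [okP, List.all_eq_true, List.mem_range, Bool.or_eq_true, beq_iff_eq, bne_iff_ne]
  intro i hi j hj
  by_cases h : i = j
  · exact Or.inl h
  · refine Or.inr fun e => h ?_
    rw [dig_mulP a b hi, dig_mulP a b hj] at e
    have h1 : funP a ⟨dig b i, dig_lt b i⟩ = funP a ⟨dig b j, dig_lt b j⟩ := Fin.ext e
    have h2 : funP b ⟨i, hi⟩ = funP b ⟨j, hj⟩ := Fin.ext (congrArg Fin.val (ok_inj ha h1) :)
    exact congrArg Fin.val (ok_inj hb h2)

theorem toP_mul {a b : ℕ} (ha : okP a = true) (hb : okP b = true) :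
    toP (mulP a b) = toP a * toP b := by
  refine Equiv.ext fun i => Fin.ext ?_
  rw [toP_apply (okP_mul ha hb), dig_mulP a b i.2, Equiv.Perm.mul_apply, toP_apply ha,
    toP_apply hb]

theorem mulP_iff {a b c d : ℕ} (ha : okP a = true) (hb : okP b = true) (hc : okP c = true)
    (hd : okP d = true) : mulP a b = mulP c d ↔ toP a * toP b = toP c * toP d := by
  refine ⟨fun h => by rw [← toP_mul ha hb, ← toP_mul hc hd, h], fun h => ?_⟩
  have e : ∀ i, i < 8 → dig a (dig b i) = dig c (dig d i) := fun i hi => by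
    have := congrArg Fin.val (Equiv.congr_fun h ⟨i, hi⟩)
    rwa [Equiv.Perm.mul_apply, Equiv.Perm.mul_apply, toP_apply ha, toP_apply hb, toP_apply hc,
      toP_apply hd] at this
  simp only [mulP, pack, e 0 (by omega), e 1 (by omega), e 2 (by omega), e 3 (by omega),
    e 4 (by omega), e 5 (by omega), e 6 (by omega), e 7 (by omega)]

theorem idP_spec : okP idP = true ∧ ∀ i < 8, dig idP i = i := by decide

theorem toP_idP : toP idP = 1 := by
  refine Equiv.ext fun i => Fin.ext ?_
  rw [toP_apply idP_spec.1, idP_spec.2 i i.2]; rfl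

/-- The normalizer of a list of permutation codes. -/
noncomputable def normP (l : List ℕ) : Subgroup S8 :=
  let M : Submonoid S8 :=
    { carrier := {p | ∀ x ∈ l, ∃ y ∈ l, p * toP x = toP y * p}
      one_mem' := fun x hx => ⟨x, hx, by rw [one_mul, mul_one]⟩
      mul_mem' := fun {p q} hp hq x hx => by
        obtain ⟨y, hy, e⟩ := hq x hx
        obtain ⟨z, hz, e'⟩ := hp y hy
        exact ⟨z, hz, by rw [mul_assoc, e, ← mul_assoc, e', mul_assoc]⟩ }
  { M with
    inv_mem' := fun {x} hx => by
      have h : Submonoid.powers x ≤ M := Submonoid.powers_le.2 hx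
      exact h ((mem_powers_iff_mem_zpowers (x := x)).2 (inv_mem (Subgroup.mem_zpowers x))) }

theorem mem_normP {l : List ℕ} {p : S8} :
    p ∈ normP l ↔ ∀ x ∈ l, ∃ y ∈ l, p * toP x = toP y * p := Iff.rfl

/-- The test for `normP`. -/
def nrm (l : List ℕ) (a : ℕ) : Bool := l.all fun x => l.any fun y => mulP a x == mulP y a

theorem nrm_iff {l : List ℕ} (hl : ∀ x ∈ l, okP x = true) {a : ℕ} (ha : okP a = true) :
    nrm l a = true ↔ toP a ∈ normP l := by
  simp only [nrm, List.all_eq_true, List.any_eq_true, beq_iff_eq, mem_normP]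
  exact ⟨fun h x hx => (h x hx).imp fun y hy =>
      ⟨hy.1, (mulP_iff ha (hl x hx) (hl y hy.1) ha).1 hy.2⟩,
    fun h x hx => (h x hx).imp fun y hy =>
      ⟨hy.1, (mulP_iff ha (hl x hx) (hl y hy.1) ha).2 hy.2⟩⟩

end H55.SThree.Alt
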