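import Cfsg.Agent.H55.SThree.Alt.Model
import Cfsg.Agent.H55.SThree.Basic

/-! The permutations of the codes multiply as the codes do. -/

set_option autoImplicit false

namespace H55.SThree.Alt

/-- The permutation of a code. -/
noncomputable def P (c : ℕ) : S8 := toP (rho c)

/-- The affine group of a structure. -/
noncomputable def aff (k : ℕ) : Subgroup S8 := normP (pE k)

theorem mem_kS {k : ℕ} (hk : k ∈ [1, 2]) : k ∈ List.range 3 := by
  simp only [List.mem_cons, List.not_mem_nil, or_false] at hk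
  rcases hk with rfl | rfl <;> decide

theorem eL_all {k c : ℕ} (hk : k ∈ [1, 2]) (h : c ∈ eL k) : c ∈ allL := eL_allL (mem_kS hk) h

theorem zero_eL {k : ℕ} (hk : k ∈ [1, 2]) : 0 ∈ eL k := (eL_base (mem_kS hk)).1

theorem pE_ok {k : ℕ} (hk : k ∈ [1, 2]) : ∀ x ∈ pE k, okP x = true := by
  intro x hx
  obtain ⟨c, hc, rfl⟩ := List.mem_map.1 hx
  exact rho_ok c (eL_all hk hc)

theorem P_apply {c : ℕ} (hc : c ∈ allL) (i : Fin 8) : ((P c) i : ℕ) = dig (rho c) i :=
  toP_apply (rho_ok c hc) i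

theorem P_pt {c : ℕ} (hc : c ∈ allL) : ((P c) 0 : ℕ) = pt c := P_apply hc 0

theorem P_zero : P 0 = 1 := by rw [P, rho_zero.1, toP_idP]

theorem P_inj {c d : ℕ} (hc : c ∈ allL) (hd : d ∈ allL) (h : P c = P d) : c = d := by
  refine List.inj_on_of_nodup_map rho_nodup hc hd ?_
  show mulP (rho c) idP = mulP (rho d) idP
  rw [mulP_iff (rho_ok c hc) idP_spec.1 (rho_ok d hd) idP_spec.1, show toP (rho c) = P c from rfl, h]
  rfl

theorem mem_aff {k : ℕ} (hk : k ∈ [1, 2]) {p : S8} :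
    p ∈ aff k ↔ ∀ c ∈ eL k, ∃ d ∈ eL k, p * P c = P d * p := by
  rw [aff, mem_normP]
  constructor
  · intro h c hc
    obtain ⟨y, hy, e⟩ := h (rho c) (List.mem_map_of_mem hc)
    obtain ⟨d, hd, rfl⟩ := List.mem_map.1 hy
    exact ⟨d, hd, e⟩
  · intro h x hx
    obtain ⟨c, hc, rfl⟩ := List.mem_map.1 hx
    obtain ⟨d, hd, e⟩ := h c hc
    exact ⟨rho d, List.mem_map_of_mem hd, e⟩

variable {G : Type*} [Group G] {s : G} {Q : Subgroup G} {φ : ℕ → G}

theorem mulC_mem {c d : ℕ} (hc : c ∈ allL) (hd : d ∈ allL) : mulC true false c d ∈ allL :=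
  mem_allL.2 (mulC_lt true false c hc d hd)

theorem mulC_assoc (F : Frame s Q true false φ) {a b c : ℕ} (ha : a ∈ allL) (hb : b ∈ allL)
    (hc : c ∈ allL) :
    mulC true false (mulC true false a b) c = mulC true false a (mulC true false b c) :=
  F.inj _ (mulC_mem (mulC_mem ha hb) hc) _ (mulC_mem ha (mulC_mem hb hc)) (by
    rw [← F.mul _ (mulC_mem ha hb) _ hc, ← F.mul a ha b hb, ← F.mul a ha _ (mulC_mem hb hc),
      ← F.mul b hb c hc, mul_assoc])

theorem P_mul (F : Frame s Q true false φ) {c d : ℕ} (hc : c ∈ allL) (hd : d ∈ allL) :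
    P (mulC true false c d) = P c * P d := by
  let W : ℕ → Prop := fun d => d ∈ allL ∧ ∀ c ∈ allL, P (mulC true false c d) = P c * P d
  have hmul : ∀ a b, W a → W b → W (mulC true false a b) := by
    intro a b ⟨ha, wa⟩ ⟨hb, wb⟩
    refine ⟨mulC_mem ha hb, fun c hc => ?_⟩
    rw [← mulC_assoc F hc ha hb, wb _ (mulC_mem hc ha), wa c hc, wb a ha, mul_assoc]
  have hgen : ∀ g ∈ [96, 24, 48, 72, 6, 12, 18, 2, 4, 1], W g := fun g hg => by
    refine ⟨(rho_gen g hg).1, fun c hc => ?_⟩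
    rw [P, (rho_gen g hg).2 c hc, toP_mul (rho_ok c hc) (rho_ok g (rho_gen g hg).1)]
    rfl
  have h0 : W 0 := by
    refine ⟨zero_mem_allL, fun c hc => ?_⟩
    have h : mulC true false c 0 = c := F.inj _ (mulC_mem hc zero_mem_allL) _ hc (by
      rw [← F.mul c hc 0 zero_mem_allL, F.map_zero, mul_one])
    rw [h, P_zero, mul_one]
  obtain ⟨-, hz, hu, hv, hn, hb⟩ := enc_coord d hd
  have hg : ∀ g ∈ [enc (cZ d) 0 0 0 0, enc 0 (cU d) 0 0 0, enc 0 0 (cV d) 0 0,
      enc 0 0 0 (cN d) 0, enc 0 0 0 0 (cB d)], W g := fun g hg => by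
    rcases enc_gens _ (List.mem_range.2 hz) _ (List.mem_range.2 hu) _ (List.mem_range.2 hv) _
      (List.mem_range.2 hn) _ (List.mem_range.2 hb) g hg with rfl | h
    · exact h0
    · exact hgen g h
  have hW : W d := by
    rw [← enc_split d hd]
    exact hmul _ _ (hmul _ _ (hmul _ _ (hmul _ _ (hg _ (by simp)) (hg _ (by simp)))
      (hg _ (by simp))) (hg _ (by simp))) (hg _ (by simp))
  exact hW.2 c hc

theorem P_mem_aff (F : Frame s Q true false φ) {k c : ℕ} (hk : k ∈ [1, 2]) (hc : c ∈ allL) :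
    P c ∈ aff k := by
  rw [mem_aff hk]
  intro d hd
  obtain ⟨h1, h2⟩ := eL_conj k hk c hc d hd
  exact ⟨_, h1, by rw [← P_mul F hc (eL_all hk hd), h2, P_mul F (eL_all hk h1) hc]⟩

end H55.SThree.Alt
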